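import Cfsg.Agent.Lib.Linear.OWreath.Gen
import Cfsg.Agent.Lib.Linear.SpWreath.Main
import Cfsg.Agent.Lib.Linear.IsotropicFix.OrthReduce

/-!
# Transporting a tensor power structure to standard coordinates

The reduction of maximality of the stabiliser in `Ω` to subgroups of the standard tensor power which
contain the factors and the even permutations.
-/

set_option autoImplicit false
set_option linter.unusedSectionVars false

namespace Cfsg.Lib.Linear.OWreath

open Cfsg.Geo Cfsg.Lib.Linear.AschGen Cfsg.Lib.Linear.TWreath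
open Cfsg.Lib.Linear.SpWreath (Std)
open Cfsg.Lib.Linear.Orth (sGL Space)
open scoped Matrix MatrixGroups

universe u

variable {F : Type u} [Field F] {k t : ℕ}

theorem single_pure (a : Idx k t) :
    (Pi.single a 1 : Idx k t → F) = AschSp.pureVec fun i => Pi.single (a i) 1 := by
  classical
  funext x
  rw [AschSp.pureVec, Pi.single_apply]
  by_cases h : x = a
  · simp [h]
  · obtain ⟨i, hi⟩ := Function.ne_iff.1 h
    rw [if_neg h, Finset.prod_eq_zero (Finset.mem_univ i) (by rw [Pi.single_eq_of_ne hi])]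

/-- A quadratic function without mixed terms vanishing on the basis is zero. -/
theorem quad_ext {ι : Type} [Fintype ι] [DecidableEq ι] {D : (ι → F) → F}
    (hadd : ∀ u v, D (u + v) = D u + D v) (hsmul : ∀ (c : F) u, D (c • u) = c ^ 2 * D u)
    (h : ∀ a, D (Pi.single a 1) = 0) (x : ι → F) : D x = 0 := by
  rw [pi_eq_sum_univ' x]
  refine Finset.sum_induction _ (fun x => D x = 0) (fun u v hu hv => by rw [hadd, hu, hv, add_zero])
    (by simpa using hsmul 0 0) fun a _ => by rw [hsmul, h, mul_zero]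

theorem iso_of_basis (S : Std k F) (l : Fin t) (hpar : (-1 : F) ^ t = 1) {g : GL (Idx k t) F}
    (hg : S.IsoT g.val) (hb : ∀ a, quadT S l (g.val *ᵥ Pi.single a 1) = 0) :
    g ∈ isometryGroup F (quadT S l) := by
  have C := space S l hpar
  refine Orth.mem_iso.2 fun v => sub_eq_zero.1 ?_
  refine quad_ext (D := fun v => quadT S l (g.val *ᵥ v) - quadT S l v) (fun u w => ?_) (fun c u => ?_)
    (fun a => by simp only [hb, quadT_single, sub_self]) v
  · rw [Matrix.mulVec_add, C.add, C.add, (isoT_iff S _).1 hg]; ring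
  · rw [Matrix.mulVec_smul, C.smul, C.smul]; ring

theorem permGL_iso (S : Std k F) (l : Fin t) (hpar : (-1 : F) ^ t = 1) (σ : Equiv.Perm (Fin t)) :
    (permGL σ : GL (Idx k t) F) ∈ isometryGroup F (quadT S l) := by
  classical
  refine iso_of_basis S l hpar ?_ fun a => ?_
  · show S.adT (permMat σ) * permMat σ = 1
    rw [show S.adT (permMat σ : Matrix (Idx k t) (Idx k t) F) = permMat σ.symm from S.adT_permMat σ,
      permMat_mul, show σ.symm * σ = 1 from inv_mul_cancel σ, permMat_one]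
  · have e : (permGL σ : GL (Idx k t) F).val *ᵥ Pi.single a 1 = Pi.single (a ∘ σ.symm) (1 : F) := by
      show permMat σ *ᵥ _ = _
      funext x
      rw [Matrix.mulVec_single_one, Matrix.col_apply]
      simp only [permMat, Matrix.of_apply, Pi.single_apply]
      congr 1
      exact propext ⟨fun h => by rw [h, Function.comp_assoc]; simp, fun h => by rw [h, Function.comp_assoc]; simp⟩
    rw [e, quadT_single]

theorem permGL_omega [Fintype F] (S : Std k F) (l : Fin t) (hpar : (-1 : F) ^ t = 1)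
    (h5 : 5 ≤ Fintype.card (Idx k t)) {σ : Equiv.Perm (Fin t)} (hσ : Equiv.Perm.sign σ = 1) :
    (permGL σ : GL (Idx k t) F) ∈ omegaGL (quadT S l) := by
  classical
  have hle : Subgroup.closure {σ : Equiv.Perm (Fin t) | Equiv.Perm.IsThreeCycle σ} ≤
      (omegaGL (quadT S l)).comap (permGL (F := F) (m := k)) := by
    rw [Subgroup.closure_le]
    intro τ hτ
    refine IsoFix.mem_omegaGL_of_odd (space S l hpar) (by omega) (Or.inr (by omega)) (r := 3) (by decide)
      ⟨permGL τ, permGL_iso S l hpar τ⟩ (Subtype.ext ?_)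
    rw [SubmonoidClass.coe_pow, ← map_pow, ← hτ.orderOf, pow_orderOf_eq_one, map_one]
    rfl
  refine hle ?_
  rw [Equiv.Perm.closure_three_cycles_eq_alternating]
  exact hσ

/-- Isometries of the factors lie in `Ω`. -/
theorem fu_omega [Finite F] (S : Std k F) (l : Fin (t + 1)) (ht : 0 < t) (hpar : (-1 : F) ^ (t + 1) = 1)
    (h5 : 5 ≤ Fintype.card (Idx k (t + 1))) (i : Fin (t + 1)) {a : GL (Fin k) F} (ha : S.Iso a) :
    fu i a ∈ omegaGL (quadT S l) := by
  classical
  rw [Orth.omegaGL_eq (space S l hpar) h5]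
  let E := Symp.glEquiv (Fin k) F
  have hiso : E a ∈ Symp.iso (formW S) := fun u v => by
    rw [formW_eq_dual, formW_eq_dual, Symp.glEquiv_apply, Symp.glEquiv_apply, ← S.dual_vecMul ha,
      ← Matrix.dotProduct_mulVec, Matrix.mulVec_mulVec, Units.inv_mul, Matrix.one_mulVec]
  let φ : Symp.iso (formW S) →* GL (Idx k (t + 1)) F :=
    (fu i).comp (E.symm.toMonoidHom.comp (Symp.iso (formW S)).subtype)
  have hle : (⊤ : Subgroup (Symp.iso (formW S))) ≤ (Orth.Root (quadT S l) (formT S (t + 1)) ⊤).comap φ := by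
    rw [← Symp.closure_tvG (formW_nondeg S) (formW_alt S), Subgroup.closure_le]
    rintro _ ⟨v, c, rfl⟩
    have e : φ (Symp.tvG (formW_alt S) v c) = fu i (S.trv v (-c)) := by
      show fu i (E.symm _) = _
      congr 1
      refine E.symm_apply_eq.2 (LinearEquiv.ext fun x => ?_)
      show x + (c * formW S x v) • v = E (S.trv v (-c)) x
      rw [Symp.glEquiv_apply, S.trv_mulVec, formW_eq_dual, S.dual_dot_comm x v]
      module
    show φ (Symp.tvG (formW_alt S) v c) ∈ Orth.Root (quadT S l) (formT S (t + 1)) ⊤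
    rw [e]
    exact trv_mem_root S l ht hpar i v (-c)
  have h1 := hle (Subgroup.mem_top (⟨E a, hiso⟩ : Symp.iso (formW S)))
  have e : φ ⟨E a, hiso⟩ = fu i a := congrArg (fu i) (E.symm_apply_apply a)
  rw [Subgroup.mem_comap, e] at h1
  exact h1

/-- A standard structure adapted to a symplectic form on the factor. -/
theorem exists_std {ι : Type} [Fintype ι] [DecidableEq ι] (hk : 0 < k) (ht : 0 < t) (e : ι ≃ Idx k t)
    (P : GL ι F) (f : (ι → F) → (ι → F) → F) (f₁ : (Fin k → F) → (Fin k → F) → F) (hf₁ : IsSymplecticForm f₁)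
    (hT : IsTensorPowerFormStructure id f f₁ e P) :
    ∃ (S : Std k F) (Pm : GL ι F) (c : F), c ≠ 0 ∧
      tensorWreathSubgroup k t e Pm = tensorWreathSubgroup k t e P ∧
      (∀ x y : Idx k t → F, f (Pm.val *ᵥ (x ∘ e)) (Pm.val *ᵥ (y ∘ e)) = c * formT S t x y) ∧
      ∀ u : Fin t → Fin k → F, ∃ v : Fin t → Fin k → F,
        Pm.val *ᵥ (AschSp.pureVec u ∘ e) = P.val *ᵥ (AschSp.pureVec v ∘ e) := by
  classical
  obtain ⟨r, rfl⟩ : Even k := by
    by_contra hne
    exact Cfsg.Lib.Linear.Asch.not_alt_odd (f := f₁) (by rw [Fintype.card_fin]; exact Nat.not_even_iff_odd.1 hne)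
      hf₁.bilinear hf₁.alternating hf₁.nondegenerate
  set S := SpWreath.Std.std r F with hS
  obtain ⟨c, hc0, hc⟩ := hT
  have hbil := hf₁.bilinear
  let B1 : LinearMap.BilinForm F (Fin (r + r) → F) := LinearMap.mk₂ F f₁ hbil.add_left hbil.smul_left
    hbil.add_right hbil.smul_right
  let BS : LinearMap.BilinForm F (Fin (r + r) → F) := LinearMap.mk₂ F (fun u v => S.dual u ⬝ᵥ v)
    (fun u u' v => by rw [S.dual_add, add_dotProduct]) (fun a u v => by rw [S.dual_smul, smul_dotProduct])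
    (fun u v v' => dotProduct_add _ _ _) (fun a u v => dotProduct_smul _ _ _)
  obtain ⟨ψ, hψ⟩ := ClassSpP.exists_isometry (B := B1) (S := BS) (fun v => hf₁.alternating v)
    (fun v hv => (hf₁.nondegenerate v hv).2) (fun v => S.dual_dot_self v)
    (fun v hv => S.exists_dual_ne hv) rfl
  set Q : GL (Fin (r + r)) F := (Symp.glEquiv (Fin (r + r)) F).symm ψ.symm with hQ
  have hQv : ∀ v, Q.val *ᵥ v = ψ.symm v := fun v => by
    rw [← Symp.glEquiv_apply, hQ, MulEquiv.apply_symm_apply]
  set G1 : Matrix (Fin (r + r)) (Fin (r + r)) F := gramMatrix f₁ with hG1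
  have hB1 : ∀ u v, f₁ u v = u ⬝ᵥ G1 *ᵥ v := by
    intro u v
    show B1 u v = _
    rw [pi_eq_sum_univ' u, map_sum, LinearMap.sum_apply, sum_dotProduct]
    refine Finset.sum_congr rfl fun a _ => ?_
    rw [map_smul, LinearMap.smul_apply, smul_eq_mul, smul_dotProduct, smul_eq_mul, single_dotProduct, one_mul]
    congr 1
    conv_lhs => rw [pi_eq_sum_univ' v, map_sum]
    refine Finset.sum_congr rfl fun b _ => ?_
    rw [map_smul, smul_eq_mul]
    show v b * f₁ _ _ = G1 a b * v b
    rw [mul_comm]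
    rfl
  have hgram : Q.valᵀ * G1 * Q.val = S.gram := by
    ext a b
    have h1 : f₁ (Q.val *ᵥ Pi.single a 1) (Q.val *ᵥ Pi.single b 1) = S.gram a b := by
      show B1 _ _ = _
      rw [hQv, hQv, ← hψ, LinearEquiv.apply_symm_apply, LinearEquiv.apply_symm_apply]
      show S.dual (Pi.single a 1) ⬝ᵥ Pi.single b 1 = _
      rw [S.dual_single, smul_dotProduct, single_dotProduct, one_mul, smul_eq_mul, Pi.single_apply,
        SpWreath.Std.gram, Matrix.of_apply]
      simp [eq_comm]
    rw [← h1, hB1, Matrix.mulVec_mulVec, Matrix.mulVec_single_one, Matrix.mulVec_single_one, Matrix.mul_assoc,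
      Matrix.mul_apply]
    rfl
  let pt : GL (Idx (r + r) t) F := ⟨pureTens fun _ => Q.val, pureTens fun _ => (Q⁻¹).val,
    by rw [pureTens_mul]; simp [pureTens_one], by rw [pureTens_mul]; simp [pureTens_one]⟩
  set P' := P * glReindex e.symm pt with hP'
  have hmv : ∀ x : Idx (r + r) t → F, P'.val *ᵥ (x ∘ e) = P.val *ᵥ ((pt.val *ᵥ x) ∘ e) := fun x => by
    rw [hP', Units.val_mul, ← Matrix.mulVec_mulVec, show (glReindex e.symm pt).val = pt.val.submatrix e e from rfl,
      Matrix.submatrix_mulVec_equiv]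
    congr 2
    exact congrArg (fun z => pt.val *ᵥ z) (funext fun i => by simp)
  refine ⟨S, P', c, hc0, ?_, fun x y => ?_, fun u => ⟨fun i => Q.val *ᵥ u i, ?_⟩⟩
  · have hpt : pt ∈ tensorWreathStandard (r + r) t F :=
      Subgroup.subset_closure (Or.inl ⟨fun _ => Q, fun x y => rfl⟩)
    have hmem : glReindex e.symm pt ∈ (tensorWreathStandard (r + r) t F).map (glReindex e.symm).toMonoidHom :=
      ⟨pt, hpt, rfl⟩
    unfold tensorWreathSubgroup
    rw [hP', map_mul]
    refine le_antisymm ?_ ?_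
    · rintro _ ⟨x, hx, rfl⟩
      exact ⟨_, mul_mem (mul_mem hmem hx) (inv_mem hmem), by simp [mul_assoc]⟩
    · rintro _ ⟨x, hx, rfl⟩
      exact ⟨_, mul_mem (mul_mem (inv_mem hmem) hx) hmem, by simp [mul_assoc]⟩
  · rw [hmv, hmv, hc, formT_apply, ← SpWreath.Std.pureTens_gram, ← hgram]
    congr 1
    change Cfsg.Geo.formOfGram id (pureTens fun _ : Fin t => G1) (pt.val *ᵥ x) (pt.val *ᵥ y) = _
    rw [AschSp.formOfGram_mat, show pt.val = pureTens fun _ : Fin t => Q.val from rfl, ← pureTens_mul, ← pureTens_mul,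
      ← AschSp.pureTens_transpose]
    exact (show ∀ (A M : Matrix (Idx (r + r) t) (Idx (r + r) t) F) (x y : Idx (r + r) t → F),
      (A *ᵥ x) ⬝ᵥ M *ᵥ (A *ᵥ y) = x ⬝ᵥ (Aᵀ * M * A) *ᵥ y from fun A M x y => by
        rw [← Matrix.mulVec_mulVec, ← Matrix.mulVec_mulVec, Matrix.dotProduct_mulVec x Aᵀ, Matrix.vecMul_transpose]) _ _ _ _
  · rw [hmv, show pt.val = pureTens fun _ : Fin t => Q.val from rfl, AschSp.pureTens_mulVec]

/-- A Siegel element of two basis vectors outside the stabiliser. -/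
theorem sGL_not_mst (S : Std k F) (l : Fin t) (hpar : (-1 : F) ^ t = 1) {x y : Idx k t} {i j j' : Fin t}
    (hyx : y ≠ x) (hi : y i ≠ S.π (x i)) (hj : y j ≠ S.π (x j)) (hj' : y j' ≠ S.π (x j')) (hjj : j ≠ j') :
    sGL (quadT S l) (formT S t) (Pi.single x 1) (Pi.single y 1) ∉ mst k t F := by
  classical
  have C := space S l hpar
  have hyπ : y ≠ S.πT x := fun e => hi (congrFun e i)
  set u := sGL (quadT S l) (formT S t) (Pi.single x 1) (Pi.single y 1) with hu
  have hv : u.val = 1 + (1 : F) • (S.eT x • Matrix.single y (S.πT x) (1 : F) - S.eT y • Matrix.single x (S.πT y) 1) := by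
    rw [← single_sGL hpar hyπ 1, one_smul]
  have hB : formT S t (Pi.single x 1) (Pi.single y 1) = 0 := by rw [formT_single, if_neg (Ne.symm hyπ)]
  have hiv : (u⁻¹).val = 1 - (1 : F) • (S.eT x • Matrix.single y (S.πT x) (1 : F) - S.eT y • Matrix.single x (S.πT y) 1) := by
    rw [SpTensor.sGL_inv' C (quadT_single S l x) hB, ← neg_one_smul F (Pi.single y (1 : F) : Idx k t → F),
      single_sGL hpar hyπ]
    module
  intro hmem
  obtain ⟨σ, hσ⟩ := hmem
  obtain ⟨b, hb⟩ := hσ i
  have h1 := congrFun (congrFun (hb (sg (y i) (y i))) y) (S.πT x)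
  rw [conjA_apply, fa_sg_diag] at h1
  have h0 : fa (σ i) (conjA b (sg (y i) (y i))) y (S.πT x) = 0 := by
    rw [fa_apply, powStd_apply, if_neg]
    intro h
    by_cases e : j = σ i
    · exact hj' (h j' (e ▸ hjj.symm))
    · exact hj (h j e)
  rw [h0, hv, hiv, one_smul] at h1
  set D : Matrix (Idx k t) (Idx k t) F := Matrix.diagonal fun z : Idx k t => if z i = y i then (1 : F) else 0
  set N := S.eT x • Matrix.single y (S.πT x) (1 : F) - S.eT y • Matrix.single x (S.πT y) 1 with hN
  have hz : ∀ p, N y p = if p = S.πT x then S.eT x else 0 := fun p => by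
    simp [hN, Matrix.single_apply, hyx.symm, eq_comm]
  have hx0 : N (S.πT x) (S.πT x) = 0 := by
    simp [hN, Matrix.single_apply, hyπ, (πT_ne S (Fin.pos l) x).symm]
  have e1 : (N * D * N) y (S.πT x) = 0 := by
    rw [Matrix.mul_assoc, Matrix.mul_apply, Finset.sum_eq_single (S.πT x)]
    · rw [Matrix.diagonal_mul, hx0]; simp
    · intro p _ hp; rw [hz, if_neg hp, zero_mul]
    · intro h; exact absurd (Finset.mem_univ _) h
  have e2 : ((1 + N) * D * (1 - N)) y (S.πT x) = -S.eT x := by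
    simp only [add_mul, mul_sub, one_mul, mul_one, Matrix.add_apply, Matrix.sub_apply, e1, D, Matrix.diagonal_mul,
      Matrix.mul_diagonal, hz, if_true, show S.πT x i ≠ y i from Ne.symm hi, if_false,
      Matrix.diagonal_apply_ne _ hyπ]
    simp
  rw [e2, neg_eq_zero] at h1
  exact left_ne_zero_of_mul_eq_one (S.eT_sq x) h1

theorem exists_not_mst [Finite F] (S : Std k F) (l : Fin t) (hpar : (-1 : F) ^ t = 1) (hk : 2 ≤ k)
    (ht : 2 ≤ t) (hkt : k = 2 → 3 ≤ t) (h5 : 5 ≤ Fintype.card (Idx k t)) :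
    ∃ u ∈ omegaGL (quadT S l), u ∉ mst k t F := by
  classical
  have C := space S l hpar
  set a : Fin k := ⟨0, by omega⟩
  obtain ⟨i, j, hij⟩ : ∃ i j : Fin t, i ≠ j := ⟨⟨0, by omega⟩, ⟨1, by omega⟩, by simp⟩
  suffices h : ∃ (x y : Idx k t) (i j j' : Fin t), y ≠ x ∧ y i ≠ S.π (x i) ∧ y j ≠ S.π (x j) ∧
      y j' ≠ S.π (x j') ∧ j ≠ j' by
    obtain ⟨x, y, i, j, j', h1, h2, h3, h4, h6⟩ := h
    refine ⟨_, ?_, sGL_not_mst S l hpar h1 h2 h3 h4 h6⟩
    rw [Orth.omegaGL_eq C h5]
    exact Orth.sGL_mem_root trivial trivial (quadT_single S l x)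
      (by rw [formT_single, if_neg fun e => h2 (congrFun e i).symm])
  by_cases hb : ∃ b, b ≠ a ∧ b ≠ S.π a
  · obtain ⟨b, hb1, hb2⟩ := hb
    exact ⟨fun _ => a, fun _ => b, i, i, j, fun e => hb1 (congrFun e i), hb2, hb2, hb2, hij⟩
  have hk2 : k = 2 := by
    push Not at hb
    have h : (Finset.univ : Finset (Fin k)) ⊆ {a, S.π a} := fun q _ => by
      by_cases e : q = a
      · simp [e]
      · simp [hb q e]
    have := (Finset.card_le_card h).trans Finset.card_le_two
    rw [Finset.card_univ, Fintype.card_fin] at this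
    omega
  have h3 := hkt hk2
  obtain ⟨p, hpi, hpj⟩ : ∃ p : Fin t, p ≠ i ∧ p ≠ j := by
    by_contra hc
    push Not at hc
    have := Finset.card_le_card (show (Finset.univ : Finset (Fin t)) ⊆ {i, j} from fun z _ => by
      rcases eq_or_ne z i with rfl | hz
      · simp
      · simp [hc z hz])
    rw [Finset.card_univ, Fintype.card_fin] at this
    exact absurd (this.trans Finset.card_le_two) (by omega)
  have hne : ∀ z, z ≠ p → Function.update (fun _ => a) p (S.π a) z ≠ S.π a := fun z hz => by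
    rw [Function.update_of_ne hz]; exact (S.nofix a).symm
  exact ⟨fun _ => a, Function.update (fun _ => a) p (S.π a), i, i, j,
    fun e => S.nofix a (by simpa using congrFun e p), hne i hpi.symm, hne i hpi.symm, hne j hpj.symm, hij⟩

/-- Maximality reduces to the subgroups containing the factors and the even permutations. -/
theorem isMaximalIn_of [Fintype F] {n : ℕ} (hn : 13 ≤ n) (Q : (Fin n → F) → F)
    (hQ : IsNondegenerateQuadraticForm Q) (ht : 2 ≤ t) (hpar : (-1 : F) ^ t = 1)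
    (e : Fin n ≃ Idx k t) (P : GL (Fin n) F) (f₁ : (Fin k → F) → (Fin k → F) → F) (hf₁ : IsSymplecticForm f₁)
    (hT : IsTensorPowerFormStructure id (QuadraticMap.polar Q) f₁ e P)
    (hpure : ∀ xs : Fin t → Fin k → F, Q (P.val *ᵥ ((fun a => ∏ i, xs i (a i)) ∘ e)) = 0)
    (hmain : ∀ (S : Std k F) (l : Fin t) (G : Subgroup (GL (Idx k t) F)), G ≤ omegaGL (quadT S l) → S.SOver G →
      mst k t F ⊓ omegaGL (quadT S l) ≤ G → G ≤ mst k t F ∨ omegaGL (quadT S l) ≤ G) :
    IsMaximalIn (omegaGL Q) (tensorWreathSubgroup k t e P ⊓ omegaGL Q) := by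
  classical
  have hcard : k ^ t = n := by simpa using (Fintype.card_congr e).symm
  have hk1 : 2 ≤ k := by
    by_contra hk
    rcases Nat.lt_or_ge 0 k with hk0 | hk0
    · rw [show k = 1 by omega, one_pow] at hcard; omega
    · rw [Nat.le_zero.1 hk0, zero_pow (by omega)] at hcard; omega
  have h5 : 5 ≤ Fintype.card (Idx k t) := by rw [← Fintype.card_congr e, Fintype.card_fin]; omega
  have hkt : k = 2 → 3 ≤ t := fun h => by
    by_contra hc
    rw [h, show t = 2 by omega] at hcard
    omega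
  obtain ⟨B, C⟩ := Orth.exists_space hQ
  obtain ⟨S, Pm, c, hc0, hsame, hform, hpu⟩ := exists_std (by omega) (by omega) e P _ f₁ hf₁ hT
  rw [← hsame]
  let l : Fin t := ⟨0, by omega⟩
  have Cs := space S l hpar
  have hQf : ∀ x : Idx k t → F, Q (Pm.val *ᵥ (x ∘ e)) = c * quadT S l x := fun x => sub_eq_zero.1 <| by
    refine quad_ext (D := fun x => Q (Pm.val *ᵥ (x ∘ e)) - c * quadT S l x) (fun u v => ?_) (fun r u => ?_)
      (fun a => ?_) x
    · have h1 := hform u v
      rw [C.polar] at h1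
      rw [Pi.add_comp, Matrix.mulVec_add, C.add, Cs.add, h1]
      ring
    · rw [Pi.smul_comp, Matrix.mulVec_smul, C.smul, Cs.smul]; ring
    · obtain ⟨v, hv⟩ := hpu fun i => Pi.single (a i) 1
      rw [single_pure, hv, ← single_pure, quadT_single, mul_zero, sub_zero]
      exact hpure v
  let Θ : GL (Idx k t) F ≃* GL (Fin n) F := (glReindex e.symm).trans (MulAut.conj Pm)
  have hΘ : ∀ (g : GL (Idx k t) F) (x : Idx k t → F),
      (Θ g).val *ᵥ (Pm.val *ᵥ (x ∘ e)) = Pm.val *ᵥ ((g.val *ᵥ x) ∘ e) := fun g x => by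
    show (Pm * glReindex e.symm g * Pm⁻¹).val *ᵥ _ = _
    rw [Units.val_mul, ← Matrix.mulVec_mulVec, Orth.inv_act, Units.val_mul, ← Matrix.mulVec_mulVec,
      show (glReindex e.symm g).val = g.val.submatrix e e from rfl, Matrix.submatrix_mulVec_equiv]
    congr 2
    exact congrArg (fun z => g.val *ᵥ z) (funext fun i => by simp)
  have hiso : (isometryGroup F (quadT S l)).map Θ.toMonoidHom = isometryGroup F Q := by
    ext y
    obtain ⟨g, rfl⟩ := Θ.surjective y
    rw [show Θ g = Θ.toMonoidHom g from rfl, Subgroup.mem_map_iff_mem Θ.injective]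
    show g ∈ _ ↔ Θ g ∈ _
    rw [Orth.mem_iso, Orth.mem_iso]
    constructor
    · intro h v
      obtain ⟨x, rfl⟩ : ∃ x : Idx k t → F, Pm.val *ᵥ (x ∘ e) = v :=
        ⟨((Pm⁻¹).val *ᵥ v) ∘ e.symm, by
          rw [Function.comp_assoc, Equiv.symm_comp_self, Function.comp_id, Matrix.mulVec_mulVec, Units.mul_inv,
            Matrix.one_mulVec]⟩
      rw [hΘ, hQf, hQf, h]
    · intro h x
      have h1 := h (Pm.val *ᵥ (x ∘ e))
      rw [hΘ, hQf, hQf] at h1
      exact mul_left_cancel₀ hc0 h1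
  have hΩ : ∀ g, Θ g ∈ omegaGL Q ↔ g ∈ omegaGL (quadT S l) := fun g => by
    have e1 : (omegaGL (quadT S l)).map Θ.toMonoidHom = omegaGL Q := by
      rw [Cfsg.Geo.omegaGL, Cfsg.Geo.omegaGL, Cfsg.Omega, Cfsg.Omega, Subgroup.map_subtype_commutator,
        Subgroup.map_subtype_commutator, Subgroup.map_commutator, hiso]
    rw [← e1]
    exact Subgroup.mem_map_iff_mem Θ.injective
  have hTw : ∀ g : GL (Idx k t) F, Θ g ∈ tensorWreathSubgroup k t e Pm ↔ g ∈ mst k t F := fun g => by
    rw [mst_eq_standard (by omega) (by omega)]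
    constructor
    · rintro ⟨_, ⟨x, hx, rfl⟩, hxg⟩
      have : x = g := Θ.injective hxg
      exact this ▸ hx
    · intro hg
      exact ⟨_, ⟨g, hg, rfl⟩, rfl⟩
  obtain ⟨u, hu, hum⟩ := exists_not_mst S l hpar hk1 ht hkt h5
  refine ⟨lt_of_le_of_ne inf_le_right fun h => hum ?_, fun L hL hLS => ?_⟩
  · exact (hTw u).1 ((SetLike.ext_iff.1 h (Θ u)).2 ((hΩ u).2 hu)).1
  set G := L.comap Θ.toMonoidHom with hG
  have hGle : G ≤ omegaGL (quadT S l) := fun g hg => (hΩ g).1 (hLS hg)
  have hover : mst k t F ⊓ omegaGL (quadT S l) ≤ G := fun g hg => hL ⟨(hTw g).2 hg.1, (hΩ g).2 hg.2⟩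
  have hOver : S.SOver G := by
    refine ⟨fun g hg => ⟨1, ?_⟩, fun i a ha => hover ⟨fu_mem_mst i a, ?_⟩, fun σ hσ =>
      ⟨permGL σ, hover ⟨permGL_mem_mst σ, permGL_omega S l hpar h5 hσ⟩, rfl⟩⟩
    · rw [one_smul]
      obtain ⟨y, -, rfl⟩ := hGle hg
      exact isoT_of_iso S l hpar y.2
    · obtain ⟨t', rfl⟩ : ∃ t', t = t' + 1 := ⟨t - 1, by omega⟩
      exact fu_omega S l (by omega) hpar h5 i ha
  rcases hmain S l G hGle hOver hover with h | h
  · refine Or.inl (le_antisymm (le_inf (fun x hx => ?_) hLS) hL)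
    obtain ⟨g, rfl⟩ := Θ.surjective x
    exact (hTw g).2 (h hx)
  · refine Or.inr (le_antisymm hLS fun x hx => ?_)
    obtain ⟨g, rfl⟩ := Θ.surjective x
    exact h ((hΩ g).1 hx)

/-- Odd characteristic. -/
theorem isMaximalIn_odd [Fintype F] {n : ℕ} (hn : 13 ≤ n) (Q : (Fin n → F) → F)
    (hQ : IsNondegenerateQuadraticForm Q) (ht : 2 ≤ t) (hodd : Odd (Fintype.card F)) (hte : Even t)
    (hex : ¬ (Fintype.card F = 3 ∧ k = 2))
    (e : Fin n ≃ Idx k t) (P : GL (Fin n) F) (f₁ : (Fin k → F) → (Fin k → F) → F) (hf₁ : IsSymplecticForm f₁)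
    (hT : IsTensorPowerFormStructure id (QuadraticMap.polar Q) f₁ e P)
    (hpure : ∀ xs : Fin t → Fin k → F, Q (P.val *ᵥ ((fun a => ∏ i, xs i (a i)) ∘ e)) = 0) :
    IsMaximalIn (omegaGL Q) (tensorWreathSubgroup k t e P ⊓ omegaGL Q) := by
  classical
  have h2 : (2 : F) ≠ 0 := fun h => by
    have h1 : ringChar F = 2 := by
      refine (CharP.eq F (ringChar.charP F) ?_)
      exact CharTwo.of_one_ne_zero_of_two_eq_zero one_ne_zero h
    rw [FiniteField.even_card_iff_char_two] at h1
    rw [Nat.odd_iff] at hodd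
    omega
  have hcard : k ^ t = n := by simpa using (Fintype.card_congr e).symm
  have hk : 2 ≤ k := by
    by_contra hk
    rcases Nat.lt_or_ge 0 k with hk0 | hk0
    · rw [show k = 1 by omega, one_pow] at hcard; omega
    · rw [Nat.le_zero.1 hk0, zero_pow (by omega)] at hcard; omega
  refine isMaximalIn_of hn Q hQ ht hte.neg_one_pow e P f₁ hf₁ hT hpure fun S l G hGle hOver _ => ?_
  by_cases hR : S.NR G
  · refine Or.inl (SpWreath.Std.le_mst h2 hk (fun hk2 => ?_) (by omega) G hOver hR)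
    by_contra hc
    push Not at hc
    have hsub : (Finset.univ : Finset F) ⊆ {0, 1, -1} := fun y _ => by
      rcases eq_or_ne y 0 with rfl | hy
      · simp
      · rcases mul_self_eq_one_iff.1 (hc y hy) with rfl | rfl <;> simp
    have h3 := (Finset.card_le_card hsub).trans Finset.card_le_three
    rw [Finset.card_univ] at h3
    have h4 := Fintype.one_lt_card (α := F)
    rw [Nat.odd_iff] at hodd
    exact hex ⟨by omega, by omega⟩
  · refine Or.inr (omega_le_of_rich hte.neg_one_pow (fun g hg => ?_) hOver h2 hk hte ht (fun h => ?_) hR ?_)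
    · obtain ⟨y, -, rfl⟩ := hGle hg
      exact y.2
    · by_contra hc
      rw [h, show t = 2 by omega] at hcard
      omega
    · rw [← Fintype.card_congr e, Fintype.card_fin]
      omega

end Cfsg.Lib.Linear.OWreath
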