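import Cfsg.Agent.Lib.Linear.OWreath.Bridge
import Cfsg.Agent.Lib.Linear.TWreath.Main
import Cfsg.Agent.Lib.Linear.SpWreath.Classify

/-!
# Characteristic two: algebras invariant under the symplectic groups of the factors

An algebra of matrices of the tensor power stable under the isometries of every factor and not
consisting of scalars contains all the matrices of some factor.
-/

set_option autoImplicit false
set_option linter.unusedSectionVars false

namespace Cfsg.Lib.Linear.OWreath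

open Cfsg.Geo Cfsg.Lib.Linear.AschGen Cfsg.Lib.Linear.TWreath
open Cfsg.Lib.Linear.SpWreath (Std)
open scoped Matrix MatrixGroups

variable {F : Type*} [Field F] {k t : ℕ} (S : Std k F)

theorem neg_eq_of_two (h2 : (2 : F) = 0) {ι : Type*} (M : Matrix ι ι F) : -M = M := by
  refine neg_eq_of_add_eq_zero_left ?_
  rw [← two_smul F, h2, zero_smul]

theorem e_one (h2 : (2 : F) = 0) (a : Fin k) : S.e a = 1 := eq_one_of_sq h2 (S.sign a)

theorem dsg_one (h2 : (2 : F) = 0) (ρ : Equiv.Perm (Fin k)) (a : Fin k) : S.dsg ρ a = 1 :=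
  eq_one_of_sq h2 (S.dsg_sq ρ a)

/-- The short piece of two indices in different pairs. -/
def pc (a c : Fin k) : Matrix (Fin k) (Fin k) F := sg a c + sg (S.π c) (S.π a)

/-- A short piece. -/
def IsP2 (N : Matrix (Fin k) (Fin k) F) : Prop := ∃ a c, c ≠ a ∧ c ≠ S.π a ∧ N = pc S a c

variable {S} {l : Fin t} {W : Submodule F (Matrix (Idx k t) (Idx k t) F)}

theorem conjA_pc (h2 : (2 : F) = 0) (ρ : Equiv.Perm (Fin k)) (hρ : ∀ a, ρ (S.π a) = S.π (ρ a)) (a c : Fin k) :
    conjA (S.mon ρ hρ) (pc S a c) = pc S (ρ a) (ρ c) := by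
  simp only [pc, map_add, S.conjA_mon, dsg_one S h2, mul_one, one_smul, hρ]

theorem long_op (h2 : (2 : F) = 0) (hW : S.Inv l W) (a : Fin k) {Φ : Matrix (Idx k t) (Idx k t) F} (hΦ : Φ ∈ W) :
    fa l (sg a (S.π a)) * Φ + Φ * fa l (sg a (S.π a)) + fa l (sg a (S.π a)) * Φ * fa l (sg a (S.π a)) ∈ W := by
  have h1 := W.sub_mem (hW _ (S.iso_trv (Pi.single a 1) 1) Φ hΦ) hΦ
  rw [conjA_apply, fu_val, fu_inv_val, S.trv_val, S.trv_inv_val, S.nr_single, e_one S h2, one_smul, one_smul,
    map_add, map_sub, map_one, sub_eq_add_neg (1 : Matrix (Idx k t) (Idx k t) F), neg_eq_of_two h2] at h1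
  convert h1 using 1
  simp only [add_mul, mul_add, one_mul, mul_one]
  abel

/-- A cross component gives a short piece. -/
theorem cross_piece (h2 : (2 : F) = 0) (hW : S.Inv l W) {Φ : Matrix (Idx k t) (Idx k t) F} (hΦ : Φ ∈ W)
    {p q : Fin k} (h1 : q ≠ p) (h1' : q ≠ S.π p) (hne : comp l Φ p q ≠ 0) :
    ∃ N Ψ, IsP2 S N ∧ Ψ ≠ 0 ∧ Com l Ψ ∧ (∀ l', l' ≠ l → Com l' Φ → Com l' Ψ) ∧ fa l N * Ψ ∈ W := by
  set a := S.π p with ha
  have hpa : S.π a = p := S.invol p
  set b := q with hb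
  have hba : b ≠ a := h1'
  have hba' : b ≠ S.π a := by rwa [hpa]
  have h := long_op h2 hW a (long_op h2 hW b hΦ)
  set N := fa (t := t) l (sg a (S.π a) : Matrix (Fin k) (Fin k) F) with hN
  set M := fa (t := t) l (sg b (S.π b) : Matrix (Fin k) (Fin k) F) with hM
  have n1 : S.π a ≠ b := Ne.symm hba'
  have n2 : S.π b ≠ a := fun e => hba' (by rw [← e, S.invol])
  have hNM : N * M = 0 := by rw [hN, hM, ← map_mul, sg_mul_ne _ _ n1, map_zero]
  have hMN : ∀ X, X * M * N = 0 := fun X => by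
    rw [mul_assoc, hM, hN, ← map_mul, sg_mul_ne _ _ n2, map_zero, mul_zero]
  have e : N * (M * Φ + Φ * M + M * Φ * M) + (M * Φ + Φ * M + M * Φ * M) * N +
      N * (M * Φ + Φ * M + M * Φ * M) * N = N * Φ * M + M * Φ * N := by
    simp only [mul_add, add_mul, ← mul_assoc, hNM, zero_mul, hMN, zero_add, add_zero]
  rw [e, hN, hM, ← sg_comp, ← sg_comp] at h
  set Y' := comp l Φ (S.π a) b with hY'
  set Y := comp l Φ (S.π b) a with hY
  have hY'0 : Y' ≠ 0 := by rw [hY', hpa]; exact hne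
  have c1 : S.π b ≠ a := n2
  have c2 : S.π b ≠ S.π a := fun e' => hba (S.π_inj e')
  by_cases hYY : Y = Y'
  · refine ⟨pc S a (S.π b), Y', ⟨a, S.π b, c1, c2, rfl⟩, hY'0, comp_com _ _ _ _,
      fun l' hl' h' => comp_com_other l _ hl' h' _ _, ?_⟩
    rw [hYY, ← add_mul, ← map_add] at h
    rwa [pc, S.invol]
  · obtain ⟨ρ, hρ, hρa, hρb⟩ := S.exists_rho hba hba' (fun e' : a = b => hba e'.symm) n2.symm
    have hconj := hW _ (S.iso_mon ρ hρ) _ h
    rw [map_add, map_mul, map_mul, acts_fu, acts_fu, S.conjA_mon, S.conjA_mon, conjA_fu_com (comp_com _ _ _ _),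
      conjA_fu_com (comp_com _ _ _ _)] at hconj
    simp only [dsg_one S h2, mul_one, one_smul, hρ, hρa, hρb] at hconj
    refine ⟨pc S a (S.π b), Y' + Y, ⟨a, S.π b, c1, c2, rfl⟩, fun e0 => hYY ?_,
      (comp_com _ _ _ _).add (comp_com _ _ _ _),
      fun l' hl' h' => (comp_com_other l _ hl' h' _ _).add (comp_com_other l _ hl' h' _ _), ?_⟩
    · rw [eq_neg_of_add_eq_zero_left e0, neg_eq_of_two h2]
    · convert W.add_mem h hconj using 1
      rw [pc, S.invol, map_add]
      simp only [mul_add, add_mul]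
      abel

/-- A space invariant at a factor contains a short piece unless it commutes with the factor. -/
theorem step2 (h2 : (2 : F) = 0) (hk : 4 ≤ k) (hW : S.Inv l W) {Φ : Matrix (Idx k t) (Idx k t) F} (hΦ : Φ ∈ W)
    (hn : ¬ Com l Φ) :
    ∃ N Ψ, IsP2 S N ∧ Ψ ≠ 0 ∧ Com l Ψ ∧ (∀ l', l' ≠ l → Com l' Φ → Com l' Ψ) ∧ fa l N * Ψ ∈ W := by
  classical
  have hex : ∀ p : Fin k, ∃ b, b ≠ p ∧ b ≠ S.π p := fun p => TWreath.exists_third (by omega) p (S.π p)
  by_cases h : ∃ x : GL (Fin k) F, S.Iso x ∧ ∃ p q, q ≠ p ∧ q ≠ S.π p ∧ comp l (conjA (fu l x) Φ) p q ≠ 0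
  · obtain ⟨x, hx, p, q, h1, h1', hne⟩ := h
    obtain ⟨N, Ψ, hN, hΨ0, hΨl, hΨo, hΨW⟩ := cross_piece h2 hW (hW x hx Φ hΦ) h1 h1' hne
    exact ⟨N, Ψ, hN, hΨ0, hΨl, fun l' hl' hc => hΨo l' hl' ((acts_fu_ne hl' x).com hc), hΨW⟩
  exfalso
  push Not at h
  have h0 : ∀ p q, q ≠ p → q ≠ S.π p → comp l Φ p q = 0 := fun p q h1 h1' => by
    simpa [conjA_one] using h 1 (Std.Iso.one S) p q h1 h1'
  have key : ∀ p b, b ≠ p → b ≠ S.π p → comp l Φ p (S.π p) = 0 ∧ comp l Φ p p = comp l Φ b b := by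
    intro p b hbp hbp'
    have n1 : S.π p ≠ S.π b := fun e => hbp (S.π_inj e).symm
    have n2 : S.π b ≠ p := fun e => hbp' (by rw [← e, S.invol])
    have n3 : S.π p ≠ p := S.nofix p
    set X : Matrix (Fin k) (Fin k) F := pc S b p with hX
    have hXX : X * X = 0 := by
      simp only [hX, pc, add_mul, mul_add]
      rw [sg_mul_ne _ _ hbp.symm, sg_mul_ne _ _ n3.symm, sg_mul_ne _ _ (S.nofix b), sg_mul_ne _ _ n1.symm]
      simp
    have hmul : (1 + X) * (1 + X) = 1 := by
      rw [show (1 + X) * (1 + X) = 1 + (X + X) + X * X by noncomm_ring, hXX, add_zero, ← two_smul F X, h2,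
        zero_smul, add_zero]
    have had : S.ad (1 + X) = 1 + X := by
      rw [S.ad_add, S.ad_one, hX, pc, S.ad_add, S.ad_sg, S.ad_sg, S.invol, S.invol]
      simp only [e_one S h2, mul_one, one_smul]
      abel
    let x : GL (Fin k) F := ⟨1 + X, 1 + X, hmul, hmul⟩
    have hx : S.Iso x := by show S.ad (1 + X) * (1 + X) = 1; rw [had, hmul]
    have hz : comp l (conjA (fu l x) Φ) b (S.π p) = 0 :=
      h x hx b (S.π p) (Ne.symm hbp') n1
    have hz' : comp l (conjA (fu l x) Φ) b p = 0 := h x hx b p hbp.symm n2.symm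
    have hcon : ∀ r s, fa l (sg b r) * conjA (fu l x) Φ * fa l (sg s b) =
        fa l (sg b r * (1 + X)) * Φ * fa l ((1 + X) * sg s b) := fun r s => by
      rw [conjA_apply, fu_val, fu_inv_val, map_mul, map_mul]
      simp only [mul_assoc]
      rfl
    have hb1 : sg b b * (1 + X) = (sg b b + sg b p : Matrix (Fin k) (Fin k) F) := by
      simp only [hX, pc, mul_add, mul_one, sg_mul, sg_mul_ne _ _ (fun e : b = S.π p => hbp' e), add_zero]
    constructor
    · have e1 : (1 + X) * sg (S.π p) b = (sg (S.π p) b : Matrix (Fin k) (Fin k) F) := by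
        simp only [hX, pc, add_mul, one_mul, sg_mul_ne _ _ n3.symm, sg_mul_ne _ _ n1.symm, add_zero]
      have h1 := hcon b (S.π p)
      rw [← sg_comp, hz, mul_zero, hb1, e1, map_add, add_mul, add_mul, ← sg_comp, ← sg_comp,
        h0 b (S.π p) (Ne.symm hbp') n1, mul_zero, zero_add] at h1
      exact eq_zero_of_fa_mul (sg_ne_zero b b) (comp_com _ _ _ _) h1.symm
    · have e1 : (1 + X) * sg p b = (sg p b + sg b b : Matrix (Fin k) (Fin k) F) := by
        simp only [hX, pc, add_mul, one_mul, sg_mul, sg_mul_ne _ _ n2, add_zero]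
      have h1 := hcon b p
      rw [← sg_comp, hz', mul_zero, hb1, e1, map_add, map_add, add_mul, mul_add, add_mul, add_mul, ← sg_comp,
        ← sg_comp, ← sg_comp, ← sg_comp, h0 b p hbp.symm n2.symm, h0 p b hbp hbp', mul_zero,
        zero_add, add_zero, ← mul_add] at h1
      have h3 := eq_zero_of_fa_mul (sg_ne_zero b b) ((comp_com _ _ _ _).add (comp_com _ _ _ _)) h1.symm
      rw [eq_neg_of_add_eq_zero_left h3, neg_eq_of_two h2]
  have heq : ∀ p q, comp l Φ p p = comp l Φ q q := by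
    intro p q
    by_cases h1 : q ≠ p ∧ q ≠ S.π p
    · exact (key p q h1.1 h1.2).2
    obtain ⟨b, hb1, hb2⟩ := hex p
    have hbq : b ≠ q ∧ b ≠ S.π q := by
      rw [not_and_or, not_not, not_not] at h1
      rcases h1 with rfl | rfl
      · exact ⟨hb1, hb2⟩
      · exact ⟨hb2, by rwa [S.invol]⟩
    rw [(key p b hb1 hb2).2, (key q b hbq.1 hbq.2).2]
  refine hn ?_
  obtain ⟨z⟩ : Nonempty (Fin k) := ⟨⟨0, by omega⟩⟩
  have hd : Φ = ∑ p, fa l (sg p p) * comp l Φ z z := by
    conv_lhs => rw [← sum_comp l Φ]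
    refine Finset.sum_congr rfl fun p _ => ?_
    rw [Finset.sum_eq_single p (fun q _ hq => ?_) (fun h => absurd (Finset.mem_univ _) h), heq p z]
    rcases eq_or_ne q (S.π p) with rfl | hq'
    · obtain ⟨b, hb1, hb2⟩ := hex p
      rw [(key p b hb1 hb2).1, mul_zero]
    · rw [h0 p q hq hq', mul_zero]
  rw [hd, ← Finset.sum_mul, ← map_sum, sum_sg, map_one, one_mul]
  exact comp_com _ _ _ _

theorem pc_opp {a c : Fin k} (h2 : c ≠ S.π a) :
    pc S a c * pc S c a = (sg a a + sg (S.π c) (S.π c) : Matrix (Fin k) (Fin k) F) := by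
  have n1 : S.π a ≠ c := Ne.symm h2
  simp only [pc, add_mul, mul_add, sg_mul, sg_mul_ne _ _ n1, sg_mul_ne _ _ n1.symm, add_zero, zero_add]

theorem IsP2.ne_zero {N : Matrix (Fin k) (Fin k) F} (h : IsP2 S N) : N ≠ 0 := by
  obtain ⟨a, c, -, h2, rfl⟩ := h
  intro e
  have h1 := congrFun (congrFun e a) c
  simp [pc, show ¬ S.π a = c from Ne.symm h2] at h1

/-- An invariant space with a non-zero element contains a product of short pieces. -/
theorem exists_pure2 (h2 : (2 : F) = 0) (hk : 4 ≤ k) : ∀ (D : Finset (Fin t))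
    (W : Submodule F (Matrix (Idx k t) (Idx k t) F)), (∀ l ∈ D, ∀ Φ ∈ W, Com l Φ) →
    (∀ l, l ∉ D → S.Inv l W) → (∃ Φ ∈ W, Φ ≠ 0) →
    ∃ X : Fin t → Matrix (Fin k) (Fin k) F,
      (∀ l, X l = 1 ∨ IsP2 S (X l)) ∧ (∀ l ∈ D, X l = 1) ∧ pureTens X ∈ W := by
  intro D
  induction hn : Dᶜ.card using Nat.strong_induction_on generalizing D with
  | _ n ih =>
  intro W hcom hinv ⟨Φ, hΦ, hΦ0⟩
  by_cases hall : ∀ l, Com l Φ
  · obtain ⟨c, hc⟩ := scalar_of_com (by omega) hall
    refine ⟨fun _ => 1, fun _ => Or.inl rfl, fun _ _ => rfl, ?_⟩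
    have hc0 : c ≠ 0 := fun h => hΦ0 (by rw [hc, h, zero_smul])
    have := W.smul_mem c⁻¹ hΦ
    rwa [hc, smul_smul, inv_mul_cancel₀ hc0, one_smul, ← pureTens_one] at this
  push Not at hall
  obtain ⟨l, hl⟩ := hall
  have hlD : l ∉ D := fun h => hl (hcom l h Φ hΦ)
  obtain ⟨N, Ψ, hN, hΨ0, hΨl, hΨo, hΨW⟩ := step2 h2 hk (hinv l hlD) hΦ hl
  let W' : Submodule F (Matrix (Idx k t) (Idx k t) F) :=
    { carrier := {Ψ | (∀ l' ∈ insert l D, Com l' Ψ) ∧ fa l N * Ψ ∈ W}
      add_mem' := fun hx hy => ⟨fun l' h => (hx.1 l' h).add (hy.1 l' h), by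
        rw [mul_add]; exact W.add_mem hx.2 hy.2⟩
      zero_mem' := ⟨fun l' _ X => Commute.zero_right _, by rw [mul_zero]; exact W.zero_mem⟩
      smul_mem' := fun c x hx => ⟨fun l' h => (hx.1 l' h).smul c, by
        rw [mul_smul_comm]; exact W.smul_mem c hx.2⟩ }
  have hlt : (insert l D)ᶜ.card < n := by
    rw [← hn, Finset.compl_insert]
    exact Finset.card_erase_lt_of_mem (Finset.mem_compl.2 hlD)
  obtain ⟨X, hX, hXD, hXW⟩ := ih _ hlt (insert l D) rfl W' (fun l' hl' x hx => hx.1 l' hl') (fun l' hl' a ha x hx => by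
    have hne : l' ≠ l := fun e => hl' (e ▸ Finset.mem_insert_self l D)
    refine ⟨fun l'' h'' => (acts_fu_ne (fun e => hl' (by rw [← e]; exact h'')) a).com (hx.1 l'' h''), ?_⟩
    have h := hinv l' (fun h => hl' (Finset.mem_insert_of_mem h)) a ha _ hx.2
    rwa [map_mul, acts_fu_ne hne.symm a, conjA_one] at h) ⟨Ψ, ⟨fun l' hl' => by
      rcases Finset.mem_insert.1 hl' with rfl | h'
      · exact hΨl
      · exact hΨo l' (fun e => hlD (e ▸ h')) (hcom l' h' Φ hΦ), hΨW⟩, hΨ0⟩
  refine ⟨Function.update X l N, fun l' => ?_, fun l' hl' => ?_, ?_⟩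
  · rcases eq_or_ne l' l with rfl | h
    · exact Or.inr (by rw [Function.update_self]; exact hN)
    · rw [Function.update_of_ne h]; exact hX l'
  · rw [Function.update_of_ne (fun e : l' = l => hlD (e ▸ hl'))]
    exact hXD l' (Finset.mem_insert_of_mem hl')
  · have e : fa l N * pureTens X = pureTens (Function.update X l N) := by
      rw [(Std.fa_mul_pureTens X l N).1, hXD l (Finset.mem_insert_self l D), mul_one]
    exact e ▸ hXW.2

/-- An invariant space with a non-scalar element contains a non-trivial product of short pieces. -/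
theorem exists_pure2_ne (h2 : (2 : F) = 0) (hk : 4 ≤ k) (hinv : ∀ l, S.Inv l W)
    {Φ : Matrix (Idx k t) (Idx k t) F} (hΦ : Φ ∈ W) (hns : ∀ c : F, Φ ≠ c • 1) :
    ∃ X : Fin t → Matrix (Fin k) (Fin k) F,
      (∀ l, X l = 1 ∨ IsP2 S (X l)) ∧ (∃ l, IsP2 S (X l)) ∧ pureTens X ∈ W := by
  obtain ⟨l, hl⟩ : ∃ l, ¬ Com l Φ := by
    by_contra hc
    push Not at hc
    obtain ⟨c, hc⟩ := scalar_of_com (by omega) hc
    exact hns c hc
  obtain ⟨N, Ψ, hN, hΨ0, hΨl, -, hΨW⟩ := step2 h2 hk (hinv l) hΦ hl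
  let W' : Submodule F (Matrix (Idx k t) (Idx k t) F) :=
    { carrier := {Ψ | (∀ l' ∈ ({l} : Finset (Fin t)), Com l' Ψ) ∧ fa l N * Ψ ∈ W}
      add_mem' := fun hx hy => ⟨fun l' h => (hx.1 l' h).add (hy.1 l' h), by
        rw [mul_add]; exact W.add_mem hx.2 hy.2⟩
      zero_mem' := ⟨fun l' _ X => Commute.zero_right _, by rw [mul_zero]; exact W.zero_mem⟩
      smul_mem' := fun c x hx => ⟨fun l' h => (hx.1 l' h).smul c, by
        rw [mul_smul_comm]; exact W.smul_mem c hx.2⟩ }
  obtain ⟨X, hX, hXD, hXW⟩ := exists_pure2 (S := S) h2 hk {l} W' (fun l' hl' x hx => hx.1 l' hl')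
    (fun l' hl' a ha x hx => by
      rw [Finset.mem_singleton] at hl'
      refine ⟨fun l'' h'' => (acts_fu_ne ?_ a).com (hx.1 l'' h''), ?_⟩
      · rw [Finset.mem_singleton.1 h'']; exact Ne.symm hl'
      · have h := hinv l' a ha _ hx.2
        rwa [map_mul, acts_fu_ne (Ne.symm hl') a, conjA_one] at h) ⟨Ψ, ⟨fun l' hl' => by
      rw [Finset.mem_singleton.1 hl']; exact hΨl, hΨW⟩, hΨ0⟩
  refine ⟨Function.update X l N, fun l' => ?_, ⟨l, by rw [Function.update_self]; exact hN⟩, ?_⟩
  · rcases eq_or_ne l' l with rfl | h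
    · exact Or.inr (by rw [Function.update_self]; exact hN)
    · rw [Function.update_of_ne h]; exact hX l'
  · have e : fa l N * pureTens X = pureTens (Function.update X l N) := by
      rw [(Std.fa_mul_pureTens X l N).1, hXD l (by simp), mul_one]
    exact e ▸ hXW.2

theorem conjA_fu_pureTens (i : Fin t) (a : GL (Fin k) F) (X : Fin t → Matrix (Fin k) (Fin k) F) :
    conjA (fu i a) (pureTens X) = pureTens (Function.update X i (conjA a (X i))) := by
  rw [conjA_apply, fu_val, fu_inv_val, (Std.fa_mul_pureTens X i a.val).1, (Std.fa_mul_pureTens _ i _).2,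
    Function.update_self, Function.update_idem, conjA_apply]

theorem conj_pure {C : Submodule F (Matrix (Idx k t) (Idx k t) F)} (hinv : ∀ l, S.Inv l C)
    {x : Fin t → GL (Fin k) F} (hx : ∀ l, S.Iso (x l)) {X : Fin t → Matrix (Fin k) (Fin k) F}
    (hX : pureTens X ∈ C) : pureTens (fun l => conjA (x l) (X l)) ∈ C := by
  classical
  suffices h : ∀ R : Finset (Fin t), pureTens (fun l => if l ∈ R then conjA (x l) (X l) else X l) ∈ C by
    simpa using h Finset.univ
  intro R
  induction R using Finset.induction_on with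
  | empty => simpa using hX
  | insert a R ha ih =>
    have h := hinv a (x a) (hx a) _ ih
    rw [conjA_fu_pureTens] at h
    convert h using 2
    funext l
    rcases eq_or_ne l a with rfl | hl
    · simp [ha]
    · simp [hl]

/-- An invariant algebra with a non-scalar element contains all matrices of a factor. -/
theorem exists_fa (h2 : (2 : F) = 0) (hk : 6 ≤ k) (C : Subalgebra F (Matrix (Idx k t) (Idx k t) F))
    (hinv : ∀ l, S.Inv l C.toSubmodule) {Φ : Matrix (Idx k t) (Idx k t) F} (hΦ : Φ ∈ C)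
    (hns : ∀ c : F, Φ ≠ c • 1) : ∃ l, ∀ X, fa l X ∈ C := by
  classical
  obtain ⟨X, hX, ⟨l0, hl0⟩, hXW⟩ :=
    exists_pure2_ne h2 (by omega) hinv (show Φ ∈ C.toSubmodule from hΦ) hns
  set R := Finset.univ.filter (fun l => IsP2 S (X l)) with hR
  have hl0R : l0 ∈ R := by simp [hR, hl0]
  have hout : ∀ l, l ∉ R → X l = 1 := fun l hl => (hX l).resolve_right fun e => hl (by simp [hR, e])
  have hpc : ∀ f g : Fin t → Fin k, (∀ l, g l ≠ f l ∧ g l ≠ S.π (f l)) →
      pureTens (fun l => if l ∈ R then pc S (f l) (g l) else 1) ∈ C := by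
    intro f g hfg
    have hmv : ∀ l, ∃ x : GL (Fin k) F, S.Iso x ∧
        conjA x (X l) = if l ∈ R then pc S (f l) (g l) else 1 := fun l => by
      by_cases hl : l ∈ R
      · obtain ⟨a, c, h1, h1', hXl⟩ := (Finset.mem_filter.1 hl).2
        obtain ⟨ρ, hρ, hρa, hρc⟩ := S.exists_rho h1 h1' (hfg l).1 (hfg l).2
        exact ⟨S.mon ρ hρ, S.iso_mon ρ hρ, by rw [hXl, conjA_pc h2, hρa, hρc, if_pos hl]⟩
      · exact ⟨1, Std.Iso.one S, by rw [hout l hl, map_one, if_neg hl]⟩
    choose x hx hxv using hmv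
    have h := conj_pure hinv hx (show pureTens X ∈ C.toSubmodule from hXW)
    simp only [hxv] at h
    exact h
  have hdiag : ∀ f : Fin t → Fin k, pureTens (fun l => if l ∈ R then sg (f l) (f l) else 1) ∈ C := by
    intro f
    have hc : ∀ a : Fin k, ∃ c1 c2 : Fin k, c1 ≠ c2 ∧ (c1 ≠ a ∧ c1 ≠ S.π a) ∧ (c2 ≠ a ∧ c2 ≠ S.π a) := fun a => by
      have hu : 1 < ((Finset.univ : Finset (Fin k)) \ {a, S.π a}).card := by
        have h1 := Finset.le_card_sdiff {a, S.π a} (Finset.univ : Finset (Fin k))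
        have h2 : ({a, S.π a} : Finset (Fin k)).card ≤ 2 := Finset.card_le_two
        rw [Finset.card_univ, Fintype.card_fin] at h1
        omega
      obtain ⟨c1, h1, c2, h3, h12⟩ := Finset.one_lt_card.1 hu
      simp only [Finset.mem_sdiff, Finset.mem_univ, true_and, Finset.mem_insert, Finset.mem_singleton, not_or] at h1 h3
      exact ⟨c1, c2, h12, h1, h3⟩
    choose c1 c2 h12 hc1 hc2 using hc
    have hP : ∀ c : Fin k → Fin k, (∀ a, c a ≠ a ∧ c a ≠ S.π a) →
        pureTens (fun l => if l ∈ R then sg (f l) (f l) + sg (S.π (c (f l))) (S.π (c (f l))) else 1) ∈ C := by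
      intro c hc
      have h := C.mul_mem (hpc f (fun l => c (f l)) fun l => hc _)
        (hpc (fun l => c (f l)) f fun l => ⟨(hc _).1.symm, fun e => (hc (f l)).2 (by
          have e' := congrArg S.π e
          rw [S.invol] at e'
          exact e'.symm)⟩)
      rw [pureTens_mul] at h
      convert h using 2
      funext l
      by_cases hl : l ∈ R
      · simp only [if_pos hl, pc_opp (hc (f l)).2]
      · simp [hl]
    have h := C.mul_mem (hP c1 hc1) (hP c2 hc2)
    rw [pureTens_mul] at h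
    convert h using 2
    funext l
    by_cases hl : l ∈ R
    · have n1 : f l ≠ S.π (c2 (f l)) := fun e => (hc2 (f l)).2 (by
        have e' := congrArg S.π e
        rw [S.invol] at e'
        exact e'.symm)
      have n2 : S.π (c1 (f l)) ≠ f l := fun e => (hc1 (f l)).2 (by
        have e' := congrArg S.π e
        rwa [S.invol] at e')
      have n3 : S.π (c1 (f l)) ≠ S.π (c2 (f l)) := fun e => h12 (f l) (S.π_inj e)
      simp only [if_pos hl, add_mul, mul_add, sg_mul, sg_mul_ne _ _ n1, sg_mul_ne _ _ n2, sg_mul_ne _ _ n3, add_zero]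
    · simp [hl]
  have hsum : ∀ s : Finset (Fin t), l0 ∉ s → ∀ f : Fin t → Fin k,
      pureTens (fun l => if l ∈ R \ s then sg (f l) (f l) else 1) ∈ C := by
    intro s
    induction s using Finset.induction_on with
    | empty => intro _ f; simpa using hdiag f
    | insert b s hb ih =>
      intro hl0s f
      simp only [Finset.mem_insert, not_or] at hl0s
      by_cases hbR : b ∈ R
      · have hb' : ∀ a, pureTens (Function.update (fun l => if l ∈ R \ insert b s then sg (f l) (f l) else 1) b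
            (sg a a)) ∈ C := fun a => by
          convert ih hl0s.2 (Function.update f b a) using 2
          funext l
          rcases eq_or_ne l b with rfl | hl
          · simp [hbR, hb]
          · simp [hl]
        have h := sum_mem (t := (Finset.univ : Finset (Fin k))) fun a _ => hb' a
        simp only [fun a => Std.pureTens_update (F := F) (fun l => if l ∈ R \ insert b s then sg (f l) (f l) else 1) b
          (sg a a)] at h
        rw [← Finset.sum_mul, ← map_sum, sum_sg, map_one, one_mul] at h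
        convert h using 2
        funext l
        rcases eq_or_ne l b with rfl | hl <;> simp [*]
      · convert ih hl0s.2 f using 2
        funext l
        rcases eq_or_ne l b with rfl | hl
        · simp [hbR]
        · simp [hl]
  have hE : ∀ a : Fin k, fa l0 (sg a a) ∈ C := fun a => by
    convert hsum (R.erase l0) (Finset.notMem_erase l0 R) (fun _ => a) using 1
    rw [fa_apply, powStd]
    congr 1
    funext l
    rcases eq_or_ne l l0 with rfl | hl <;> simp [*]
  set a0 : Fin k := ⟨0, by omega⟩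
  have hlong : fa l0 (sg a0 (S.π a0)) ∈ C := by
    have h := long_op h2 (hinv l0) a0 (show fa l0 (sg a0 a0) ∈ C.toSubmodule from hE a0)
    simp only [← map_mul, sg_mul_ne _ _ (S.nofix a0), sg_mul, map_zero, zero_mul, zero_add, add_zero] at h
    exact h
  refine ⟨l0, fun X => Std.mem_of_nr (S := S) (T := C.comap (fa l0)) (fun u => ?_) X⟩
  rcases eq_or_ne u 0 with rfl | hu
  · rw [show S.nr (0 : Fin k → F) = 0 from Matrix.zero_vecMulVec _]; exact Subalgebra.zero_mem _
  obtain ⟨x, hx, hxu⟩ := S.exists_move (v := Pi.single a0 1) (by simp) hu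
  have h := hinv l0 x hx _ (show fa l0 (sg a0 (S.π a0)) ∈ C.toSubmodule from hlong)
  rw [acts_fu l0 x] at h
  rw [Subalgebra.mem_comap, ← hxu, ← S.conjA_nr hx, S.nr_single, e_one S h2, one_smul]
  exact h

end Cfsg.Lib.Linear.OWreath
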