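import Cfsg.Agent.Lib.Linear.OWreath.Form

/-!
# Isometries of the tensor power, factor maps on pure vectors, the factors inside the Siegel group
-/

set_option autoImplicit false
set_option linter.unusedSectionVars false

namespace Cfsg.Lib.Linear.OWreath

open Cfsg.Geo Cfsg.Lib.Linear.AschGen Cfsg.Lib.Linear.TWreath
open Cfsg.Lib.Linear.SpWreath (Std)
open Cfsg.Lib.Linear.SpTensor (InA)
open scoped Matrix MatrixGroups

variable {F : Type*} [Field F] {k t : ℕ} (S : Std k F)

theorem dualT_dot (u v : Idx k t → F) : S.dualT u ⬝ᵥ v = -((-1) ^ t * formT S t u v) := by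
  rw [formT_apply, dotProduct, Finset.mul_sum, ← Finset.sum_neg_distrib, ← Equiv.sum_comp S.πTP]
  refine Finset.sum_congr rfl fun a _ => ?_
  show -(S.eT (S.πT a) * u (S.πT (S.πT a))) * v (S.πT a) = _
  rw [S.πT_πT, S.eT_πT]
  ring

theorem formT_dualT (u v : Idx k t → F) : formT S t u v = -((-1) ^ t * (S.dualT u ⬝ᵥ v)) := by
  rw [dualT_dot, mul_neg, neg_neg, ← mul_assoc, ← mul_pow, neg_one_mul, neg_neg, one_pow, one_mul]

theorem formT_act (M : Matrix (Idx k t) (Idx k t) F) (u v : Idx k t → F) :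
    formT S t (M *ᵥ u) (M *ᵥ v) = formT S t u ((S.adT M * M) *ᵥ v) := by
  rw [formT_dualT, formT_dualT S u, ← Std.dualT_vecMul, ← Matrix.dotProduct_mulVec, Matrix.mulVec_mulVec]

theorem isoT_iff (M : Matrix (Idx k t) (Idx k t) F) :
    S.IsoT M ↔ ∀ u v, formT S t (M *ᵥ u) (M *ᵥ v) = formT S t u v := by
  refine ⟨fun h u v => by rw [formT_act, h, Matrix.one_mulVec], fun h => ?_⟩
  ext z y
  have h1 := h (Pi.single (S.πT z) 1) (Pi.single y 1)
  rw [formT_act, formT_single_left, formT_single_left, S.πT_πT, Matrix.mulVec_single_one] at h1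
  have h2 := mul_left_cancel₀ (left_ne_zero_of_mul_eq_one (S.eT_sq _)) h1
  rw [Matrix.col_apply] at h2
  rw [h2, Matrix.one_apply, Pi.single_apply]

theorem isoT_of_iso (l : Fin t) (hpar : (-1 : F) ^ t = 1) {g : GL (Idx k t) F}
    (hg : g ∈ isometryGroup F (quadT S l)) : S.IsoT g.val :=
  (isoT_iff S _).2 fun u v => (space S l hpar).B_act hg u v

theorem iso_of_isoT (h2 : (2 : F) ≠ 0) (l : Fin t) (hpar : (-1 : F) ^ t = 1) {g : GL (Idx k t) F}
    (hg : S.IsoT g.val) : g ∈ isometryGroup F (quadT S l) := by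
  refine Orth.mem_iso.2 fun v => ?_
  have C := space S l hpar
  refine mul_left_cancel₀ h2 ?_
  rw [← C.self, ← C.self]
  exact (isoT_iff S _).1 hg v v

/-- A factor map on pure vectors. -/
theorem fa_tens (i : Fin (t + 1)) (X : Matrix (Fin k) (Fin k) F) (a : Idx k t → F) (x : Fin k → F) :
    fa i X *ᵥ tens i a x = tens i a (X *ᵥ x) := by
  funext z
  rw [tens_apply, Matrix.mulVec, dotProduct, ← Equiv.sum_comp (Fin.insertNthEquiv (fun _ => Fin k) i),
    Fintype.sum_prod_type, Matrix.mulVec, dotProduct, Finset.mul_sum]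
  refine Finset.sum_congr rfl fun p _ => ?_
  rw [Finset.sum_eq_single (i.removeNth z) (fun c _ hc => ?_) (fun h => absurd (Finset.mem_univ _) h)]
  · show fa i X z (Fin.insertNth (α := fun _ => Fin k) i p (i.removeNth z)) *
      tens i a x (Fin.insertNth (α := fun _ => Fin k) i p (i.removeNth z)) = _
    rw [fa_apply, powStd_apply, if_pos (fun j hj => ?_), tens_apply, Fin.removeNth_insertNth,
      Fin.insertNth_apply_same]
    · ring
    · obtain ⟨j', rfl⟩ := (Fin.eq_self_or_eq_succAbove i j).resolve_left hj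
      rw [Fin.insertNth_apply_succAbove]
      rfl
  · show fa i X z (Fin.insertNth (α := fun _ => Fin k) i p c) * _ = _
    rw [fa_apply, powStd_apply, if_neg (fun hj => hc (funext fun j => ?_)), zero_mul]
    have := hj (i.succAbove j) (Fin.succAbove_ne i j)
    rw [Fin.insertNth_apply_succAbove] at this
    exact this.symm

/-- A map of the other factors on pure vectors. -/
theorem psi_tens (i : Fin (t + 1)) (Y : Matrix (Idx k t) (Idx k t) F) (a : Idx k t → F) (x : Fin k → F) :
    psi i Y *ᵥ tens i a x = tens i (Y *ᵥ a) x := by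
  funext z
  rw [tens_apply, Matrix.mulVec, dotProduct, ← Equiv.sum_comp (Fin.insertNthEquiv (fun _ => Fin k) i),
    Fintype.sum_prod_type, Matrix.mulVec, dotProduct, Finset.sum_mul,
    Finset.sum_eq_single (z i) (fun p _ hp => ?_) (fun h => absurd (Finset.mem_univ _) h)]
  · refine Finset.sum_congr rfl fun c _ => ?_
    show psi i Y z (Fin.insertNth (α := fun _ => Fin k) i (z i) c) *
      tens i a x (Fin.insertNth (α := fun _ => Fin k) i (z i) c) = _
    rw [psi_apply, tens_apply, Fin.insertNth_apply_same, Fin.removeNth_insertNth, if_pos rfl]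
    ring
  · refine Finset.sum_eq_zero fun c _ => ?_
    show psi i Y z (Fin.insertNth (α := fun _ => Fin k) i p c) * _ = _
    rw [psi_apply, Fin.insertNth_apply_same, if_neg (Ne.symm hp), zero_mul]

/-- The long map of two vectors of a factor, as a matrix. -/
theorem lin_eq (l : Fin (t + 1)) (ht : 0 < t) (hpar : (-1 : F) ^ (t + 1) = 1) (i : Fin (t + 1))
    (x y : Fin k → F) (φ : (Idx k t → F) →ₗ[F] (Idx k t → F)) (v : Idx k (t + 1) → F) :
    (ten S l ht hpar i).lin x y φ v =
      (-(fa i (Matrix.vecMulVec x (S.dual y)) * psi i (LinearMap.toMatrix' φ))) *ᵥ v := by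
  have T := ten S l ht hpar i
  refine LinearMap.congr_fun (T.hom_ext (f := T.lin x y φ)
    (g := Matrix.mulVecLin (-(fa i (Matrix.vecMulVec x (S.dual y)) * psi i (LinearMap.toMatrix' φ))))
    fun a z => ?_) v
  rw [Matrix.mulVecLin_apply, T.lin_apply, T.ctr_tau, map_smul, map_smul, LinearMap.smul_apply, Matrix.neg_mulVec,
    ← Matrix.mulVec_mulVec, psi_tens, fa_tens, LinearMap.toMatrix'_mulVec, Matrix.vecMulVec_mulVec,
    op_smul_eq_smul, map_smul, ← formW_eq_dual, T.ω_symm z y, neg_smul]

/-- An isometry of one factor is one of the tensor power. -/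
theorem fu_iso (l : Fin (t + 1)) (ht : 0 < t) (hpar : (-1 : F) ^ (t + 1) = 1) (i : Fin (t + 1))
    {a : GL (Fin k) F} (ha : S.Iso a) : fu i a ∈ isometryGroup F (quadT S l) := by
  have C := space S l hpar
  have T := ten S l ht hpar i
  refine Orth.mem_iso.2 fun v => ?_
  have hv : v ∈ Submodule.span F (Set.range fun p : (Idx k t → F) × (Fin k → F) => tens i p.1 p.2) :=
    T.span ▸ Submodule.mem_top
  induction hv using Submodule.span_induction with
  | mem u hu => obtain ⟨⟨b, x⟩, rfl⟩ := hu; rw [fu_val, fa_tens, T.sing, T.sing]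
  | zero => rw [Matrix.mulVec_zero]
  | add u w _ _ hu hw =>
    rw [Matrix.mulVec_add, C.add, C.add, hu, hw,
      (isoT_iff S _).1 (S.isoT_fu ha i) u w]
  | smul c u _ hu => rw [Matrix.mulVec_smul, C.smul, C.smul, hu]

/-- The transvections of the factors are products of Siegel elements. -/
theorem trv_mem_root (l : Fin (t + 1)) (ht : 0 < t) (hpar : (-1 : F) ^ (t + 1) = 1) (i : Fin (t + 1))
    (u : Fin k → F) (c : F) :
    fu i (S.trv u c) ∈ Orth.Root (quadT S l) (formT S (t + 1)) ⊤ := by
  obtain ⟨g, hg, hgv⟩ := SpTensor.long_mem_root (ten S l ht hpar i) u (-c)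
  have e : g = fu i (S.trv u c) := Orth.gl_ext fun v => by
    rw [hgv, LinearMap.smul_apply, lin_eq S l ht hpar, LinearMap.toMatrix'_id, map_one, mul_one, fu_val, S.trv_val, map_add,
      map_one, map_smul, Matrix.add_mulVec, Matrix.one_mulVec, Matrix.smul_mulVec, Matrix.neg_mulVec, neg_smul,
      smul_neg, neg_neg]
    rfl
  exact e ▸ hg

end Cfsg.Lib.Linear.OWreath
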