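import Cfsg.Agent.Lib.Linear.OWreath.EvenGood
import Cfsg.Agent.Lib.Linear.SpTensor.Line

/-!
# Characteristic two: transvections of the factors in a group without rich coefficients

An element of such a group fixing the line of a transvection, or centralising an involution of one
factor, permutes the factors.
-/

set_option autoImplicit false
set_option linter.unusedSectionVars false

namespace Cfsg.Lib.Linear.OWreath

open Cfsg.Geo Cfsg.Lib.Linear.AschGen Cfsg.Lib.Linear.TWreath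
open Cfsg.Lib.Linear.SpWreath (Std)
open Cfsg.Lib.Linear.SpTensor (InA tl mem_tl)
open scoped Matrix MatrixGroups

variable {F : Type*} [Field F] {k t : ℕ}

theorem exists_sqrt [Finite F] (h2 : (2 : F) = 0) (r : F) : ∃ s : F, r = s * s := by
  have : CharP F 2 := (CharP.charP_iff_prime_eq_zero Nat.prime_two).2 (by exact_mod_cast h2)
  have := Fintype.ofFinite F
  exact FiniteField.isSquare_of_char_two (ringChar.eq F 2) r

/-- The standing hypotheses. -/
structure ECtx (S : Std k F) (G : Subgroup (GL (Idx k (t + 1)) F)) : Prop where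
  h2 : (2 : F) = 0
  hk : 6 ≤ k
  ht : 0 < t
  hov : EOver S G
  nr : NR2 S G
  cut : ∀ x ∈ G, ∀ i a, Acts x i i a → x ∈ mst k (t + 1) F

/-- A transvection of the `i`-th factor preserving the form. -/
def IsTv2 (S : Std k F) (x : GL (Idx k t) F) (i : Fin t) : Prop :=
  ∃ u : Fin k → F, u ≠ 0 ∧ x = fu i (S.trv u 1)

/-- A conjugate of a transvection of a factor. -/
def IsD2 (S : Std k F) (G : Subgroup (GL (Idx k t) F)) (x : GL (Idx k t) F) : Prop :=
  ∃ g ∈ G, ∃ s i, IsTv2 S s i ∧ x = g * s * g⁻¹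

variable {S : Std k F} {G : Subgroup (GL (Idx k (t + 1)) F)}

theorem ECtx.hm (C : ECtx S G) : 3 ≤ k := le_trans (by norm_num) C.hk

theorem IsTv2.mem (C : ECtx S G) {x : GL (Idx k (t + 1)) F} {i : Fin (t + 1)} (h : IsTv2 S x i) : x ∈ G := by
  obtain ⟨u, -, rfl⟩ := h
  exact C.hov.sp i _ (S.iso_trv u 1)

theorem IsTv2.toTv (C : ECtx S G) {x : GL (Idx k (t + 1)) F} {i : Fin (t + 1)} (h : IsTv2 S x i) :
    TWreath.IsTv C.hm x i := by
  obtain ⟨u, hu, rfl⟩ := h
  exact isTv_mk C.hm (c := u) (φ := S.dual u) (by rw [S.trv_val, one_smul]; rfl) hu (S.dual_ne_zero hu)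
    (S.dual_dot_self u) i

theorem IsTv2.isD {x : GL (Idx k (t + 1)) F} {i : Fin (t + 1)} (h : IsTv2 S x i) : IsD2 S G x :=
  ⟨1, G.one_mem, x, i, h, by group⟩

theorem IsD2.mem (C : ECtx S G) {x : GL (Idx k (t + 1)) F} (h : IsD2 S G x) : x ∈ G := by
  obtain ⟨g, hg, s, i, hs, rfl⟩ := h
  exact G.mul_mem (G.mul_mem hg (hs.mem C)) (G.inv_mem hg)

theorem IsD2.conj {x : GL (Idx k (t + 1)) F} (h : IsD2 S G x) {g : GL (Idx k (t + 1)) F} (hg : g ∈ G) :
    IsD2 S G (g * x * g⁻¹) := by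
  obtain ⟨g', hg', s, i, hs, rfl⟩ := h
  exact ⟨g * g', G.mul_mem hg hg', s, i, hs, by group⟩

theorem IsD2.toD (C : ECtx S G) {x : GL (Idx k (t + 1)) F} (h : IsD2 S G x) : TWreath.IsD C.hm ⊤ x := by
  obtain ⟨g, -, s, i, hs, rfl⟩ := h
  obtain ⟨a, rfl⟩ := hs.toTv C
  exact ⟨g * fu i a, Subgroup.mem_top _, i, by simp only [map_mul, map_inv]; group⟩

theorem IsD2.sq (C : ECtx S G) {x : GL (Idx k (t + 1)) F} (h : IsD2 S G x) : x * x = 1 :=
  (h.toD C).sq C.h2

/-- The conjugates of transvections permuting the factors are transvections. -/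
theorem ECtx.isTv_of_mem [Finite F] (C : ECtx S G) {x : GL (Idx k (t + 1)) F} (hD : IsD2 S G x)
    (hx : x ∈ mst k (t + 1) F) : ∃ i, IsTv2 S x i := by
  have hm := C.hm
  rcases classify hm (hD.toD C) hx with ⟨i, a, rfl⟩ | ⟨-, h3, -⟩
  swap
  · exact absurd h3 (by have := C.hk; omega)
  refine ⟨i, ?_⟩
  set M := a * tv0 hm * a⁻¹ with hM
  set N := conjA a (sg (p0 hm) (p1 hm)) with hN
  have hv : M.val = 1 + N := tvVal hm a
  have hiso : S.ad M.val * M.val = 1 := fa_injective (by omega) i (by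
    rw [map_mul, map_one, ← S.adT_fa, ← fu_val]
    exact C.hov.iso _ (hD.mem C))
  have had : S.ad M.val = M.val :=
    left_inv_eq_right_inv hiso (by rw [← Units.val_mul, tv_sq hm C.h2 a, Units.val_one])
  rw [hv, S.ad_add, S.ad_one] at had
  have hsk : S.ad N = -N := by rw [neg_eq_of_two C.h2]; exact add_left_cancel had
  have hN0 : N ≠ 0 := (map_ne_zero_iff _ (conjA a).injective).2 (sg_ne_zero _ _)
  obtain ⟨r, hr, hu, hNr⟩ := Std.exists_nr hsk hN0 (u := a.val *ᵥ Pi.single (p0 hm) 1)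
    (φ := Pi.single (p1 hm) 1 ᵥ* (a⁻¹).val)
    (by rw [hN, conjA_apply, sg_eq_vecMulVec, Matrix.mul_vecMulVec, Matrix.vecMulVec_mul])
  obtain ⟨s, hs⟩ := exists_sqrt C.h2 r
  refine ⟨s • (a.val *ᵥ Pi.single (p0 hm) 1), smul_ne_zero (fun e => hr (by rw [hs, e, mul_zero])) hu,
    congrArg (fu i) (Units.ext ?_)⟩
  rw [S.trv_val, one_smul, S.nr_smul, ← hs, ← hNr, ← hv]

theorem lin_act (h2 : (2 : F) = 0) (ht : 0 < t) (i : Fin (t + 1)) (x y : Fin k → F) (w : Idx k (t + 1) → F) :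
    fa i (Matrix.vecMulVec x (S.dual y)) *ᵥ w = tens i ((tn S h2 ht i).ctr y w) x := by
  have h : (tn S h2 ht i).lin x y LinearMap.id w = fa i (Matrix.vecMulVec x (S.dual y)) *ᵥ w := by
    rw [← LinearMap.toMatrix'_mulVec, lin_mat h2 ht, LinearMap.toMatrix'_id, map_one, mul_one]
  exact h.symm

/-- An element preserving a line of a factor preserves the factor. -/
theorem ECtx.acts_of_fix (C : ECtx S G) {i : Fin (t + 1)} {g : GL (Idx k (t + 1)) F} (hg : g ∈ G)
    {b : Fin k → F} (hb : b ≠ 0) (hfix : ∀ a, g.val *ᵥ tens i a b ∈ tl (tens i) b) : ∃ A, Acts g i i A := by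
  classical
  have hk : 0 < k := by have := C.hk; omega
  have T := tn S C.h2 C.ht i
  obtain ⟨ψ, R, hRi, hR⟩ := SpTensor.line_split T (overR C.h2 C.ht i C.hov)
    (by rw [Module.finrank_fin_fun]; exact C.hk) (not_rich C.h2 C.ht i hk C.nr)
    (a₀ := Pi.single (fun _ => (⟨0, hk⟩ : Fin k)) (1 : F)) (by simp) hg hb hfix
  let E := LinearEquiv.ofInjectiveEndo R hRi
  refine exists_acts hk fun X =>
    ⟨LinearMap.toMatrix' (R ∘ₗ Matrix.toLin' X ∘ₗ E.symm.toLinearMap), ?_⟩
  set Y := LinearMap.toMatrix' (R ∘ₗ Matrix.toLin' X ∘ₗ E.symm.toLinearMap)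
  have h1 : g.val * fa i X = fa i Y * g.val := by
    refine Orth.mat_ext fun v => ?_
    refine LinearMap.congr_fun (T.hom_ext (f := Matrix.mulVecLin (g.val * fa i X))
      (g := Matrix.mulVecLin (fa i Y * g.val)) fun a x => ?_) v
    rw [Matrix.mulVecLin_apply, Matrix.mulVecLin_apply, ← Matrix.mulVec_mulVec, ← Matrix.mulVec_mulVec, fa_tens,
      hR, hR, fa_tens, LinearMap.toMatrix'_mulVec]
    congr 1
    rw [LinearMap.comp_apply, LinearMap.comp_apply]
    show R (X *ᵥ x) = R (Matrix.toLin' X (E.symm (E x)))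
    rw [E.symm_apply_apply, Matrix.toLin'_apply]
  rw [conjA_apply, h1, mul_assoc, Units.mul_inv, mul_one]

theorem commute_fa {g : GL (Idx k t) F} {i : Fin t} {L : GL (Fin k) F} (hc : Commute g (fu i L)) :
    g.val * fa i (L.val - 1) = fa i (L.val - 1) * g.val := by
  rw [map_sub, map_one, mul_sub, sub_mul, mul_one, one_mul, ← fu_val, ← Units.val_mul, hc.eq, Units.val_mul]

/-- The centraliser of a transvection permutes the factors. -/
theorem ECtx.cent_tv (C : ECtx S G) {g s : GL (Idx k (t + 1)) F} (hg : g ∈ G) {i : Fin (t + 1)}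
    (hs : IsTv2 S s i) (hc : Commute g s) : g ∈ mst k (t + 1) F := by
  obtain ⟨b, hb, rfl⟩ := hs
  obtain ⟨A, hA⟩ := C.acts_of_fix (i := i) hg hb fun a => by
    obtain ⟨z, hz⟩ := S.exists_dual_ne hb
    have h := commute_fa hc
    rw [S.trv_val, one_smul, add_sub_cancel_left] at h
    have hab : tens i a b = fa i (S.nr b) *ᵥ tens i a ((S.dual b ⬝ᵥ z)⁻¹ • z) := by
      rw [fa_tens, Matrix.mulVec_smul, Std.nr, Matrix.vecMulVec_mulVec, op_smul_eq_smul, smul_smul,
        inv_mul_cancel₀ hz, one_smul]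
    rw [hab, Matrix.mulVec_mulVec, h, ← Matrix.mulVec_mulVec, Std.nr, lin_act C.h2 C.ht]
    exact SpTensor.tau_mem_tl _ _
  exact C.cut g hg i A hA

theorem ECtx.mem_of_tv_same (C : ECtx S G) {g s : GL (Idx k (t + 1)) F} (hg : g ∈ G) {i : Fin (t + 1)}
    (hs : IsTv2 S s i) (hs' : IsTv2 S (g * s * g⁻¹) i) : g ∈ mst k (t + 1) F := by
  obtain ⟨u, hu, rfl⟩ := hs
  obtain ⟨v, hv, hv'⟩ := hs'
  obtain ⟨a, ha, hav⟩ := S.exists_move hv hu
  have h1 : fu i a * fu i (S.trv v 1) * (fu i a)⁻¹ = fu i (S.trv u 1) := by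
    rw [fu_conj_of_acts (acts_fu i a)]
    refine congrArg (fu i) (Units.ext ?_)
    rw [val_conj, S.trv_val, S.trv_val, map_add, map_one, map_smul, S.conjA_nr ha, hav]
  have h2 := C.cent_tv (G.mul_mem (C.hov.sp i a ha) hg) (s := fu i (S.trv u 1)) (i := i) ⟨u, hu, rfl⟩ (by
    show _ = _
    conv_rhs => rw [← h1, ← hv']
    group)
  simpa using (mst k (t + 1) F).mul_mem ((mst k (t + 1) F).inv_mem (fu_mem_mst i a)) h2

/-- An element carrying a transvection to one, after an even permutation of the factors. -/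
theorem ECtx.mem_of_tv_perm (C : ECtx S G) {σ : Equiv.Perm (Fin (t + 1))} {g s : GL (Idx k (t + 1)) F}
    (hg : g ∈ G) {i j : Fin (t + 1)} (hs : IsTv2 S s i) (hs' : IsTv2 S (g * s * g⁻¹) j)
    (hσ : Equiv.Perm.sign σ = 1) (hσj : σ j = i) : g ∈ mst k (t + 1) F := by
  obtain ⟨v, hv, hv'⟩ := hs'
  set P : GL (Idx k (t + 1)) F := permGL σ
  have hPj : Acts P j i 1 := by
    have h := acts_permGL (F := F) (m := k) σ j
    rwa [hσj] at h
  have h := C.mem_of_tv_same (G.mul_mem (C.hov.perm σ hσ) hg) hs ⟨v, hv, by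
    rw [show P * g * s * (P * g)⁻¹ = P * (g * s * g⁻¹) * P⁻¹ by group, hv', fu_conj_of_acts hPj]
    congr 1
    group⟩
  simpa [P] using (mst k (t + 1) F).mul_mem ((mst k (t + 1) F).inv_mem (permGL_mem_mst σ)) h

/-- An element carrying a transvection to a transvection permutes the factors. -/
theorem ECtx.mem_of_tv [Finite F] (C : ECtx S G) {g s : GL (Idx k (t + 1)) F} (hg : g ∈ G) {i j : Fin (t + 1)}
    (hs : IsTv2 S s i) (hs' : IsTv2 S (g * s * g⁻¹) j) : g ∈ mst k (t + 1) F := by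
  classical
  have hk : 0 < k := by have := C.hk; omega
  rcases eq_or_ne i j with rfl | hij
  · exact C.mem_of_tv_same hg hs hs'
  by_cases hl : ∃ l, l ≠ i ∧ l ≠ j
  · obtain ⟨l, hli, hlj⟩ := hl
    refine C.mem_of_tv_perm hg hs hs' (σ := Equiv.swap i j * Equiv.swap i l) ?_ ?_
    · rw [map_mul, Equiv.Perm.sign_swap hij, Equiv.Perm.sign_swap (Ne.symm hli)]; rfl
    · rw [Equiv.Perm.mul_apply, Equiv.swap_apply_of_ne_of_ne (Ne.symm hij) (Ne.symm hlj), Equiv.swap_apply_right]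
  push Not at hl
  have htwo : ∀ l, l = i ∨ l = j := fun l => or_iff_not_imp_left.2 (hl l)
  by_cases hback : ∃ (u : Fin k → F) (_ : u ≠ 0), IsTv2 S (g⁻¹ * fu i (S.trv u 1) * g⁻¹⁻¹) i
  · obtain ⟨u, hu, hb⟩ := hback
    simpa using (mst k (t + 1) F).inv_mem (C.mem_of_tv_same (G.inv_mem hg) ⟨u, hu, rfl⟩ hb)
  push Not at hback
  have hnr : ∀ u : Fin k → F, conjA g⁻¹ (fa i (S.nr u)) ∈ (fa (F := F) (m := k) j).range := by
    intro u
    rcases eq_or_ne u 0 with rfl | hu
    · rw [show S.nr (0 : Fin k → F) = 0 from Matrix.zero_vecMulVec _, map_zero, map_zero]; exact Subalgebra.zero_mem _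
    set x := fu (t := t + 1) i (S.trv u 1) with hx'
    have hx : IsTv2 S x i := ⟨u, hu, rfl⟩
    have hcom : Commute (g * s * g⁻¹) x := by
      obtain ⟨v, -, hv⟩ := hs'
      rw [hv]
      exact commute_fu (Ne.symm hij) _ _
    have hy : g⁻¹ * x * g⁻¹⁻¹ ∈ G := G.mul_mem (G.mul_mem (G.inv_mem hg) (hx.mem C)) (G.inv_mem (G.inv_mem hg))
    have hcs : Commute (g⁻¹ * x * g⁻¹⁻¹) s := by
      have h := congrArg (fun z => g⁻¹ * z * g) hcom.eq.symm
      show _ = _
      simpa [mul_assoc] using h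
    obtain ⟨l, hxl⟩ := C.isTv_of_mem (hx.isD.conj (G.inv_mem hg)) (C.cent_tv hy hs hcs)
    rcases htwo l with rfl | rfl
    · exact absurd hxl (hback u hu)
    · obtain ⟨v, -, hv⟩ := hxl
      have h1 := congrArg Units.val hv
      rw [val_conj, hx', fu_val, fu_val, S.trv_val, S.trv_val, map_add, map_one, map_add, map_one, one_smul,
        map_add, map_one, one_smul] at h1
      exact (AlgHom.mem_range _).2 ⟨S.nr v, (add_left_cancel h1).symm⟩
  set T : Subalgebra F (Matrix (Fin k) (Fin k) F) :=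
    ((fa (F := F) (m := k) j).range).comap ((conjA g⁻¹).toAlgHom.comp (fa i))
  obtain ⟨a, ha⟩ := exists_acts hk (g := g⁻¹) (i := i) (j := j) fun X => by
    obtain ⟨Y, hY⟩ : X ∈ T := Std.mem_of_nr (fun u => hnr u) X
    exact ⟨Y, hY.symm⟩
  obtain ⟨b, hb⟩ := exists_acts hk (g := g⁻¹) (i := j) (j := i) fun X => by
    set M := conjA g⁻¹ (fa j X)
    have hM : Com j M := fun Y => by
      obtain ⟨Z, hZ⟩ : ∃ Z, conjA g⁻¹ (fa i Z) = fa j Y :=
        ⟨conjA a⁻¹ Y, by rw [ha, ← conjA_mul, mul_inv_cancel, conjA_one]⟩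
      rw [← hZ]
      exact (fa_comm hij Z X).map (conjA g⁻¹)
    have hcs : ∀ p q, ∃ c : F, comp i M p q = c • 1 := fun p q => scalar_of_com hk fun l => by
      rcases htwo l with rfl | rfl
      · exact comp_com _ _ _ _
      · exact comp_com_other i M (Ne.symm hij) hM p q
    choose c hc using hcs
    refine ⟨∑ p, ∑ q, c p q • sg p q, ?_⟩
    conv_lhs => rw [← sum_comp i M]
    simp only [map_sum, map_smul, hc, mul_smul_comm, mul_one]
  have hm : g⁻¹ ∈ mst k (t + 1) F := ⟨Equiv.swap i j, fun l => by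
    rcases htwo l with rfl | rfl
    · rw [Equiv.swap_apply_left]; exact ⟨a, ha⟩
    · rw [Equiv.swap_apply_right]; exact ⟨b, hb⟩⟩
  simpa using (mst k (t + 1) F).inv_mem hm

theorem dual_ad (M : Matrix (Fin k) (Fin k) F) (u : Fin k → F) : S.dual u ᵥ* S.ad M = S.dual (M *ᵥ u) := by
  funext b
  simp only [Matrix.vecMul, dotProduct, Std.dual, Std.ad, Matrix.of_apply, Matrix.mulVec, Finset.mul_sum,
    ← Finset.sum_neg_distrib]
  conv_rhs => rw [← Equiv.sum_comp S.πP]
  refine Finset.sum_congr rfl fun z _ => ?_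
  show _ = -(S.e b * (M (S.π b) (S.π z) * u (S.π z)))
  linear_combination (-(S.e b * M (S.π b) (S.π z) * u (S.π z))) * S.sign z

/-- The centraliser of an involution of one factor permutes the factors. -/
theorem ECtx.cent_one [Finite F] (C : ECtx S G) {i : Fin (t + 1)} {L : GL (Fin k) F} (hL : S.Iso L) (hL1 : L ≠ 1)
    (hL2 : L * L = 1) {x : GL (Idx k (t + 1)) F} (hx : x ∈ G) (hc : Commute x (fu i L)) :
    x ∈ mst k (t + 1) F := by
  classical
  have hk : 0 < k := by have := C.hk; omega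
  have T := tn S C.h2 C.ht i
  set N := L.val - 1 with hN
  have hLN : L.val = 1 + N := by rw [hN, add_sub_cancel]
  have hNN : N * N = 0 := by
    have e : N * N = L.val * L.val - (2 : F) • L.val + 1 := by
      simp only [hN, sub_mul, mul_sub, one_mul, mul_one, two_smul]; abel
    rw [e, ← Units.val_mul, hL2, Units.val_one, C.h2, zero_smul, sub_zero,
      ← two_smul F (1 : Matrix (Fin k) (Fin k) F), C.h2, zero_smul]
  have hadN : S.ad N = N := by
    have h : S.ad L.val = L.val :=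
      left_inv_eq_right_inv hL (by rw [← Units.val_mul, hL2, Units.val_one])
    rw [hN, S.ad_sub, S.ad_one, h]
  obtain ⟨y0, hy0⟩ : ∃ y0, N *ᵥ y0 ≠ 0 := by
    by_contra h
    push Not at h
    refine hL1 (Units.ext ?_)
    rw [hLN, show N = 0 from Matrix.toLin'.injective (LinearMap.ext fun w => by simpa using h w), add_zero,
      Units.val_one]
  set y := N *ᵥ y0 with hy
  have hcx : x.val * fa i N = fa i N * x.val := commute_fa hc
  have hcx' : (x⁻¹).val * fa i N = fa i N * (x⁻¹).val := commute_fa hc.inv_left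
  have hsl : S.nr y = Matrix.vecMulVec y (S.dual y0) * N := by
    rw [Matrix.vecMulVec_mul, Std.nr]
    congr 1
    conv_rhs => rw [← hadN, dual_ad]
  have hsr : S.nr y = N * Matrix.vecMulVec y0 (S.dual y) := by rw [Matrix.mul_vecMulVec, Std.nr]
  set I : Submodule F (Fin k → F) := LinearMap.range (Matrix.toLin' N)
  have horth : ∀ p, (∀ e ∈ I, formW S e p = 0) → N *ᵥ p = 0 := fun p hp =>
    (formW_nondeg S).2 _ fun q => by
      have h := hp (N *ᵥ q) ⟨q, by simp⟩
      rwa [formW_eq_dual, ← dual_ad, hadN, ← Matrix.dotProduct_mulVec, ← formW_eq_dual] at h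
  have hker : ∀ (v : Idx k (t + 1) → F) p, N *ᵥ p = 0 → T.ctr p (fa i N *ᵥ v) = 0 := fun v p hp => by
    refine LinearMap.congr_fun (T.hom_ext (f := T.ctr p ∘ₗ Matrix.mulVecLin (fa i N)) (g := 0) fun a q => ?_) v
    rw [LinearMap.comp_apply, Matrix.mulVecLin_apply, fa_tens, T.ctr_tau, LinearMap.zero_apply,
      formW_eq_dual, ← dual_ad, hadN, ← Matrix.dotProduct_mulVec, hp, dotProduct_zero, zero_smul]
  set E := conjA x (fa i (S.nr y)) with hE
  have hEv : (x * fu i (S.trv y 1) * x⁻¹).val = 1 + E := by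
    rw [val_conj, fu_val, S.trv_val, one_smul, map_add, map_one, map_add, map_one]
  have hEE : E * E = 0 := by rw [hE, ← map_mul, ← map_mul, S.nr_mul_self, map_zero, map_zero]
  have hD : IsD2 S G (x * fu i (S.trv y 1) * x⁻¹) := (IsTv2.isD ⟨y, hy0, rfl⟩).conj hx
  obtain ⟨M, hM⟩ := SpTensor.block_scalar T (overR C.h2 C.ht i C.hov)
    (by rw [Module.finrank_fin_fun]; exact C.hk) (not_rich C.h2 C.ht i hk C.nr)
    (a₀ := Pi.single (fun _ => (⟨0, hk⟩ : Fin k)) (1 : F)) (by simp)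
    (f := Matrix.toLin' E) ((inA_iff _).2 ⟨_, hD.mem C, by rw [hEv, LinearMap.toMatrix'_toLin']⟩)
    (fun v => by rw [Matrix.toLin'_apply, Matrix.toLin'_apply, Matrix.mulVec_mulVec, hEE, Matrix.zero_mulVec])
    I (by
      rintro _ ⟨p, rfl⟩ _ ⟨q, rfl⟩
      rw [Matrix.toLin'_apply, Matrix.toLin'_apply, formW_eq_dual, ← dual_ad, hadN, ← Matrix.dotProduct_mulVec,
        Matrix.mulVec_mulVec, hNN, Matrix.zero_mulVec, dotProduct_zero])
    (fun a p hp => by
      rw [Matrix.toLin'_apply, hE, conjA_apply, hsl, map_mul]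
      simp only [mul_assoc]
      rw [← hcx', ← Matrix.mulVec_mulVec, ← Matrix.mulVec_mulVec, ← Matrix.mulVec_mulVec, fa_tens, horth p hp,
        map_zero, Matrix.mulVec_zero, Matrix.mulVec_zero, Matrix.mulVec_zero])
    (fun v p hp => by
      rw [Matrix.toLin'_apply, hE, conjA_apply, hsr, map_mul, ← mul_assoc, hcx]
      simp only [mul_assoc]
      rw [← Matrix.mulVec_mulVec]
      exact hker _ p (horth p hp))
  set Mm := LinearMap.toMatrix' M
  have hEM : E = fa i Mm := Orth.mat_ext fun v => LinearMap.congr_fun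
    (T.hom_ext (f := Matrix.mulVecLin E) (g := Matrix.mulVecLin (fa i Mm)) fun a q => by
      rw [Matrix.mulVecLin_apply, Matrix.mulVecLin_apply, fa_tens, LinearMap.toMatrix'_mulVec, ← hM,
        Matrix.toLin'_apply]) v
  have hMM : Mm * Mm = 0 := fa_injective hk i (by rw [map_mul, ← hEM, hEE, map_zero])
  have hsq : (1 + Mm) * (1 + Mm) = 1 := by
    rw [show (1 + Mm) * (1 + Mm) = 1 + (Mm + Mm) + Mm * Mm by noncomm_ring, hMM, add_zero,
      ← two_smul F Mm, C.h2, zero_smul, add_zero]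
  have hmem : x * fu i (S.trv y 1) * x⁻¹ ∈ mst k (t + 1) F := by
    rw [show x * fu i (S.trv y 1) * x⁻¹ = fu i ⟨1 + Mm, 1 + Mm, hsq, hsq⟩ from
      Units.ext (by rw [hEv, hEM, fu_val, map_add, map_one])]
    exact fu_mem_mst _ _
  obtain ⟨j, hj⟩ := C.isTv_of_mem hD hmem
  exact C.mem_of_tv hx ⟨y, hy0, rfl⟩ hj

theorem ECtx.exists_moved [Finite F] (C : ECtx S G) {x : GL (Idx k (t + 1)) F} (hx : x ∈ G)
    (hxm : x ∉ mst k (t + 1) F) : ∃ b, IsD2 S G b ∧ b ∉ mst k (t + 1) F := by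
  set u : Fin k → F := Pi.single ⟨0, by have := C.hk; omega⟩ 1
  have hs : IsTv2 S (fu (0 : Fin (t + 1)) (S.trv u 1)) 0 := ⟨u, by simp [u], rfl⟩
  refine ⟨x * fu 0 (S.trv u 1) * x⁻¹, hs.isD.conj hx, fun hb => ?_⟩
  obtain ⟨j, hj⟩ := C.isTv_of_mem (hs.isD.conj hx) hb
  exact hxm (C.mem_of_tv hx hs hj)

/-- A transvection and a moved conjugate generate no `p`-group. -/
theorem ECtx.not_pgroup [Finite F] (C : ECtx S G) (p : ℕ) [Fact p.Prime] {s b : GL (Idx k (t + 1)) F}
    {i : Fin (t + 1)} (hs : IsTv2 S s i) (hb : IsD2 S G b)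
    (hp : IsPGroup p (Subgroup.closure {s, b} : Subgroup (GL (Idx k (t + 1)) F))) : b ∈ mst k (t + 1) F := by
  classical
  by_contra hbm
  set H : Subgroup (GL (Idx k (t + 1)) F) := Subgroup.closure {s, b} with hH
  have hHG : H ≤ G := (Subgroup.closure_le _).2 (Set.insert_subset (hs.mem C)
    (Set.singleton_subset_iff.2 (hb.mem C)))
  have hsH : s ∈ H := Subgroup.subset_closure (by simp)
  have hbH : b ∈ H := Subgroup.subset_closure (by simp)
  have : Group.IsNilpotent H := hp.isNilpotent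
  set H' := (mst k (t + 1) F).subgroupOf H with hH'
  have hne : H' ≠ ⊤ := fun h => hbm (by
    have : (⟨b, hbH⟩ : H) ∈ H' := h ▸ Subgroup.mem_top _
    exact this)
  have hlt := Group.normalizerCondition_of_isNilpotent H' (lt_top_iff_ne_top.2 hne)
  obtain ⟨x, hxN, hxH'⟩ := SetLike.exists_of_lt hlt
  have hmem : (x : GL (Idx k (t + 1)) F) * s * (x : GL (Idx k (t + 1)) F)⁻¹ ∈ mst k (t + 1) F :=
    (Subgroup.mem_normalizer_iff.1 hxN ⟨s, hsH⟩).1 (hs.toTv C).mem_mst
  obtain ⟨j, hj⟩ := C.isTv_of_mem (hs.isD.conj (hHG x.2)) hmem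
  exact hxH' (C.mem_of_tv (hHG x.2) hs hj)

end Cfsg.Lib.Linear.OWreath
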