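import Cfsg.Agent.Lib.Linear.OWreath.EvenGood
import Cfsg.Agent.Lib.Linear.OWreath.Transport

/-!
# Characteristic two: a coefficient which is not a scalar gives `Ω`

The isometries of the form of all the factors but one lie in `Ω`, hence so do all permutations of
the factors, and the coefficients available form the whole algebra.
-/

set_option autoImplicit false
set_option linter.unusedSectionVars false

namespace Cfsg.Lib.Linear.OWreath

open Cfsg.Geo Cfsg.Lib.Linear.AschGen Cfsg.Lib.Linear.TWreath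
open Cfsg.Lib.Linear.SpWreath (Std)
open Cfsg.Lib.Linear.SpTensor (InA)
open scoped Matrix MatrixGroups

variable {F : Type*} [Field F] [Finite F] {k t : ℕ} {S : Std k F}

/-- An isometry of all the factors but one lies in `Ω`. -/
theorem psi_omega (h2 : (2 : F) = 0) (ht : 0 < t) (h5 : 5 ≤ Fintype.card (Idx k (t + 1))) (i : Fin (t + 1))
    {Y : GL (Idx k t) F} (hY : S.IsoT Y.val) : psiU i Y ∈ omegaGL (quadT S (0 : Fin (t + 1))) := by
  classical
  have T := tn S h2 ht i
  rw [Orth.omegaGL_eq T.space h5]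
  let E := Symp.glEquiv (Idx k t) F
  have hiso : E Y ∈ Symp.iso (formT S t) := fun u v => by
    rw [Symp.glEquiv_apply, Symp.glEquiv_apply, (isoT_iff S _).1 hY]
  let φ : Symp.iso (formT S t) →* GL (Idx k (t + 1)) F :=
    (psiU i).comp (E.symm.toMonoidHom.comp (Symp.iso (formT S t)).subtype)
  have halt := formT_alt S ht (by rw [par_two h2, ← pow_one (-1 : F), par_two h2])
  have hle : (⊤ : Subgroup (Symp.iso (formT S t))) ≤
      (Orth.Root (quadT S (0 : Fin (t + 1))) (formT S (t + 1)) ⊤).comap φ := by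
    rw [← Symp.closure_tvG (formT_nondeg S t) halt, Subgroup.closure_le]
    rintro _ ⟨v, c, rfl⟩
    obtain ⟨g, hg, hgv⟩ := SpTensor.long_mem_root T.swap v c
    have e : g = φ (Symp.tvG halt v c) := by
      refine Units.ext (Orth.mat_ext fun w => ?_)
      refine LinearMap.congr_fun (T.hom_ext (f := Matrix.mulVecLin g.val)
        (g := Matrix.mulVecLin (φ (Symp.tvG halt v c)).val) fun a x => ?_) w
      rw [Matrix.mulVecLin_apply, Matrix.mulVecLin_apply, hgv, LinearMap.smul_apply, T.swap.lin_apply,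
        show tens i a x = (tens i).flip x a from rfl, T.swap.ctr_tau, LinearMap.id_apply,
        show (φ (Symp.tvG halt v c)).val = psi i (E.symm (Symp.tvG halt v c : _)).val from rfl,
        LinearMap.flip_apply, psi_tens]
      have hv : (E.symm (Symp.tvG halt v c : _)).val *ᵥ a = a + (c * formT S t a v) • v := by
        rw [← Symp.glEquiv_apply, E.apply_symm_apply]
        rfl
      rw [hv, map_add, LinearMap.add_apply, map_smul, LinearMap.smul_apply, map_smul, LinearMap.smul_apply,
        LinearMap.flip_apply, smul_smul]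
    show φ (Symp.tvG halt v c) ∈ Orth.Root (quadT S (0 : Fin (t + 1))) (formT S (t + 1)) ⊤
    exact e ▸ hg
  have h1 := hle (Subgroup.mem_top (⟨E Y, hiso⟩ : Symp.iso (formT S t)))
  have e : φ ⟨E Y, hiso⟩ = psiU i Y := congrArg (psiU i) (E.symm_apply_apply Y)
  rw [Subgroup.mem_comap, e] at h1
  exact h1

theorem isoT_permGL (σ : Equiv.Perm (Fin t)) : S.IsoT (permGL σ : GL (Idx k t) F).val := by
  show S.adT (permMat σ) * permMat σ = 1
  rw [show S.adT (permMat σ : Matrix (Idx k t) (Idx k t) F) = permMat σ.symm from S.adT_permMat σ,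
    permMat_mul, show σ.symm * σ = 1 from inv_mul_cancel σ, permMat_one]

/-- With at least three factors all their permutations lie in `Ω`. -/
theorem perm_omega (h2 : (2 : F) = 0) (ht : 2 ≤ t) (h5 : 5 ≤ Fintype.card (Idx k (t + 1)))
    (σ : Equiv.Perm (Fin (t + 1))) : (permGL σ : GL (Idx k (t + 1)) F) ∈ omegaGL (quadT S (0 : Fin (t + 1))) := by
  classical
  induction σ using Equiv.Perm.swap_induction_on with
  | one => rw [map_one]; exact one_mem _
  | swap_mul σ a b hab ih =>
    rw [map_mul]
    refine mul_mem ?_ ih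
    obtain ⟨i, hia, hib⟩ := TWreath.exists_third (m := t + 1) (by omega) a b
    obtain ⟨a', rfl⟩ := (Fin.eq_self_or_eq_succAbove i a).resolve_left hia.symm
    obtain ⟨b', rfl⟩ := (Fin.eq_self_or_eq_succAbove i b).resolve_left hib.symm
    have e : (Equiv.swap a' b').viaEmbedding (Fin.succAboveEmb i) =
        Equiv.swap (i.succAbove a') (i.succAbove b') := by
      ext x
      rcases Fin.eq_self_or_eq_succAbove i x with rfl | ⟨j, rfl⟩
      · rw [Equiv.Perm.viaEmbedding_apply_of_notMem _ _ _ (by rintro ⟨z, hz⟩; exact Fin.succAbove_ne _ z hz),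
          Equiv.swap_apply_of_ne_of_ne (Fin.succAbove_ne _ a').symm (Fin.succAbove_ne _ b').symm]
      · rw [show (Equiv.swap a' b').viaEmbedding (Fin.succAboveEmb i) (i.succAbove j) =
          i.succAbove (Equiv.swap a' b' j) from Equiv.Perm.viaEmbedding_apply _ (Fin.succAboveEmb i) j,
          Fin.succAbove_right_injective.swap_apply]
    have e' : psiU i (permGL (Equiv.swap a' b') : GL (Idx k t) F) =
        permGL (Equiv.swap (i.succAbove a') (i.succAbove b')) := Units.ext (by
      rw [psiU_val, show (permGL (Equiv.swap a' b') : GL (Idx k t) F).val = permMat (Equiv.swap a' b') from rfl,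
        Std.psi_permMat, e]
      rfl)
    exact e' ▸ psi_omega h2 (by omega) h5 i (isoT_permGL _)

variable {G : Subgroup (GL (Idx k (t + 1)) F)}

/-- A coefficient which is not a scalar gives the whole group. -/
theorem omega_le_of_rich2 (h2 : (2 : F) = 0) (hk : 6 ≤ k) (ht : 0 < t) (h5 : 5 ≤ Fintype.card (Idx k (t + 1)))
    (hle : G ≤ omegaGL (quadT S (0 : Fin (t + 1)))) (hG : EOver S G)
    (hover : mst k (t + 1) F ⊓ omegaGL (quadT S (0 : Fin (t + 1))) ≤ G) (hR : ¬ NR2 S G) :
    omegaGL (quadT S (0 : Fin (t + 1))) ≤ G := by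
  classical
  obtain ⟨i, Ψ, hΨ, hns⟩ : ∃ i Ψ, MGood S G i Ψ ∧ ∀ c : F, Ψ ≠ c • 1 := by
    by_contra h
    push Not at h
    exact hR h
  have T := tn S h2 ht i
  have hO := overR h2 ht i hG
  have hW : 6 ≤ Module.finrank F (Fin k → F) := by rwa [Module.finrank_fin_fun]
  let C : Subalgebra F (Matrix (Idx k t) (Idx k t) F) :=
    (SpTensor.goodAlg T hO hW).comap (Matrix.toLinAlgEquiv' (R := F) (n := Idx k t)).toAlgHom
  have hC : ∀ Φ, Φ ∈ C ↔ MGood S G i (psi i Φ) := fun Φ => by
    show SpTensor.Good T G (Matrix.toLinAlgEquiv' Φ) ↔ _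
    rw [good_iff h2 ht i]
    show MGood S G i (psi i (LinearMap.toMatrix' (Matrix.toLin' Φ))) ↔ _
    rw [LinearMap.toMatrix'_toLin']
  obtain ⟨Φ, hΦ⟩ := exists_psi (by omega) i hΨ.1
  have hinv : ∀ l, S.Inv l C.toSubmodule := fun l a ha X hX => by
    show conjA (fu l a) X ∈ C
    rw [hC, ← conjA_psiU, psiU_fu]
    exact MGood.conj hG ((hC X).1 hX) (hG.sp _ a ha) (acts_fu_ne (Fin.succAbove_ne i l).symm a)
  obtain ⟨l, hl⟩ := exists_fa h2 hk C hinv ((hC Φ).2 (hΦ.symm ▸ hΨ)) fun c hc => by
    refine hns c ?_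
    rw [← hΦ, hc, map_smul, map_one]
  have htop : C = ⊤ := by
    refine eq_top_of_fa_mem (C := C) fun j X => ?_
    rcases eq_or_ne j l with rfl | hjl
    · exact hl X
    have ht2 : 2 ≤ t := by
      by_contra hc
      exact hjl (Fin.ext (by have := j.isLt; have := l.isLt; omega))
    set σ := (Equiv.swap l j).viaEmbedding (Fin.succAboveEmb i)
    set P : GL (Idx k (t + 1)) F := permGL σ
    have hP : P ∈ G := hover ⟨permGL_mem_mst σ, perm_omega h2 ht2 h5 σ⟩
    have hi : σ i = i := Equiv.Perm.viaEmbedding_apply_of_notMem _ _ _ (by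
      rintro ⟨z, hz⟩; exact Fin.succAbove_ne i z hz)
    have hσl : σ (i.succAbove l) = i.succAbove j := by
      rw [show σ (i.succAbove l) = i.succAbove (Equiv.swap l j l) from
        Equiv.Perm.viaEmbedding_apply (Equiv.swap l j) (Fin.succAboveEmb i) l, Equiv.swap_apply_left]
    have hPi : Acts P i i 1 := by
      have := acts_permGL (F := F) (m := k) σ i
      rwa [hi] at this
    have hPl : Acts P (i.succAbove l) (i.succAbove j) 1 := by
      have := acts_permGL (F := F) (m := k) σ (i.succAbove l)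
      rwa [hσl] at this
    have h := MGood.conj hG ((hC _).1 (hl X)) hP hPi
    rw [psi_fa, hPl, conjA_one, ← psi_fa] at h
    exact (hC _).2 h
  have hall : ∀ φ, SpTensor.Good T G φ := fun φ => by
    rw [good_iff h2 ht i, ← hC]
    exact htop ▸ Algebra.mem_top
  rw [Orth.omegaGL_eq T.space h5]
  refine SpTensor.root_le_of_all T (fun g hg => ?_) hW ?_ hall
  · obtain ⟨y, -, rfl⟩ := hle hg
    exact y.2
  · rw [Module.finrank_fintype_fun_eq_card, Fintype.card_pos_iff]
    exact ⟨fun _ => ⟨0, by omega⟩⟩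

end Cfsg.Lib.Linear.OWreath
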