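import Cfsg.Agent.Lib.Linear.OWreath.EvenMain
import Cfsg.Agent.Lib.Linear.OWreath.EvenRich

/-!
# Maximality in characteristic two

Induction on the number of factors, and the reduction to standard coordinates.
-/

set_option autoImplicit false
set_option linter.unusedSectionVars false

namespace Cfsg.Lib.Linear.OWreath

open Cfsg.Geo Cfsg.Lib.Linear.AschGen Cfsg.Lib.Linear.TWreath
open Cfsg.Lib.Linear.SpWreath (Std)
open scoped Matrix MatrixGroups

universe u

variable {F : Type u} [Field F] {k t : ℕ} {S : Std k F}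

theorem psiU_mem_mst (i : Fin (t + 1)) {Y : GL (Idx k t) F} (hY : Y ∈ mst k t F) :
    psiU i Y ∈ mst k (t + 1) F := by
  obtain ⟨σ, hσ⟩ := hY
  refine ⟨σ.viaEmbedding (Fin.succAboveEmb i), fun l => ?_⟩
  rcases Fin.eq_self_or_eq_succAbove i l with rfl | ⟨j, rfl⟩
  · rw [Equiv.Perm.viaEmbedding_apply_of_notMem _ _ _ (by
      rintro ⟨z, hz⟩; exact Fin.succAbove_ne _ z hz)]
    refine ⟨1, fun X => ?_⟩
    rw [conjA_one, conjA_apply, psiU_val, ← (com_psi l Y.val X).eq, mul_assoc, ← psiU_val, Units.mul_inv, mul_one]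
  · obtain ⟨b, hb⟩ := hσ j
    rw [show σ.viaEmbedding (Fin.succAboveEmb i) (i.succAbove j) = i.succAbove (σ j) from
      Equiv.Perm.viaEmbedding_apply σ (Fin.succAboveEmb i) j]
    exact ⟨b, fun X => by rw [← psi_fa, conjA_psiU, hb, psi_fa]⟩

variable {G : Subgroup (GL (Idx k (t + 1)) F)}

theorem cut_eover (hk : 0 < k) (hG : EOver S G) (i : Fin (t + 1)) : EOver S (G.comap (psiU i)) := by
  classical
  refine ⟨fun Y hY => psi_injective hk i ?_, fun j a ha => ?_, fun σ hs => ?_⟩
  · rw [map_one, map_mul, ← Std.adT_psi, ← psiU_val]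
    exact hG.iso _ hY
  · rw [Subgroup.mem_comap, psiU_fu]
    exact hG.sp _ a ha
  · have hs' : Equiv.Perm.sign (σ.viaEmbedding (Fin.succAboveEmb i)) = 1 := by
      rw [← hs]
      convert Equiv.Perm.sign_extendDomain σ (Equiv.ofInjective _ (Fin.succAboveEmb i).injective)
      ext x
      rcases Fin.eq_self_or_eq_succAbove i x with rfl | ⟨j, rfl⟩
      · rw [Equiv.Perm.viaEmbedding_apply_of_notMem _ _ _ (by rintro ⟨z, hz⟩; exact Fin.succAbove_ne _ z hz),
          Equiv.Perm.extendDomain_apply_not_subtype]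
        rintro ⟨z, hz⟩; exact Fin.succAbove_ne _ z hz
      · rw [show σ.viaEmbedding (Fin.succAboveEmb i) (i.succAbove j) = i.succAbove (σ j) from
            Equiv.Perm.viaEmbedding_apply σ (Fin.succAboveEmb i) j]
        exact congrArg Fin.val (Equiv.Perm.extendDomain_apply_image σ
          (Equiv.ofInjective _ (Fin.succAboveEmb i).injective) j).symm
    have e : psiU i (permGL σ : GL (Idx k t) F) = permGL (σ.viaEmbedding (Fin.succAboveEmb i)) := Units.ext (by
      rw [psiU_val, show (permGL σ : GL (Idx k t) F).val = permMat σ from rfl, Std.psi_permMat]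
      rfl)
    rw [Subgroup.mem_comap, e]
    exact hG.perm _ hs'

theorem cut_nr2 (hk : 0 < k) (hR : NR2 S G) (i : Fin (t + 1)) : NR2 S (G.comap (psiU i)) := by
  intro j Φ hΦ
  obtain ⟨c, hc⟩ := hR (i.succAbove j) (psi i Φ) ⟨fun X => by
      show Commute (fa (i.succAbove j) X) _
      rw [← psi_fa]; exact (hΦ.1 X).map (psi i),
    fun x y hx hy hxy => by
      obtain ⟨g, hg, hgv⟩ := hΦ.2 x y hx hy hxy
      exact ⟨psiU i g, hg, by
        rw [psiU_val, hgv, shM, shM, map_add, map_one, map_add, map_mul, map_mul, psi_fa, psi_fa, Std.adT_psi]⟩⟩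
  exact ⟨c, psi_injective hk i (by rw [hc, map_smul, map_one])⟩

/-- In characteristic two a group without rich coefficients permutes the factors. -/
theorem le_mst2 [Finite F] (h2 : (2 : F) = 0) (hk : 6 ≤ k) :
    ∀ (t : ℕ) (G : Subgroup (GL (Idx k t) F)), EOver S G → NR2 S G → G ≤ mst k t F := by
  intro t
  induction t with
  | zero => exact fun G _ _ g _ => ⟨1, fun l => l.elim0⟩
  | succ t ih =>
    intro G hG hR x hx
    rcases Nat.eq_zero_or_pos t with rfl | ht
    · exact Std.mem_mst_one (by omega) x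
    refine ECtx.le ⟨h2, hk, ht, hG, hR, fun x hx i a ha => ?_⟩ hx
    have : Nonempty (Fin k) := ⟨⟨0, by omega⟩⟩
    obtain ⟨c, hc⟩ := ad_acts (by omega) (hG.iso x hx) ha
    obtain ⟨Y, rfl⟩ := exists_split (by omega) ha
    obtain ⟨s, rfl⟩ := exists_sqrt h2 c
    have hs : s ≠ 0 := by
      intro h0
      rw [h0, mul_zero, zero_smul] at hc
      have h1 := congrArg (fun M => M * (a⁻¹).val) hc
      simp only [mul_assoc, Units.mul_inv, mul_one, zero_mul] at h1
      have h3 := congrArg S.ad h1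
      rw [S.ad_ad, S.ad_zero] at h3
      exact a.ne_zero h3
    let a' : GL (Fin k) F := ⟨s⁻¹ • a.val, s • (a⁻¹).val,
      by rw [smul_mul_smul_comm, inv_mul_cancel₀ hs, Units.mul_inv, one_smul],
      by rw [smul_mul_smul_comm, mul_inv_cancel₀ hs, Units.inv_mul, one_smul]⟩
    let Y' : GL (Idx k t) F := ⟨s • Y.val, s⁻¹ • (Y⁻¹).val,
      by rw [smul_mul_smul_comm, mul_inv_cancel₀ hs, Units.mul_inv, one_smul],
      by rw [smul_mul_smul_comm, inv_mul_cancel₀ hs, Units.inv_mul, one_smul]⟩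
    have e : fu i a * psiU i Y = fu i a' * psiU i Y' := Units.ext (by
      rw [Units.val_mul, Units.val_mul, fu_val, fu_val, psiU_val, psiU_val]
      show _ = fa i (s⁻¹ • a.val) * psi i (s • Y.val)
      rw [map_smul, map_smul, smul_mul_smul_comm, inv_mul_cancel₀ hs, one_smul])
    have ha' : S.Iso a' := by
      show S.ad (s⁻¹ • a.val) * (s⁻¹ • a.val) = 1
      rw [S.ad_smul, smul_mul_smul_comm, hc, smul_smul,
        show s⁻¹ * s⁻¹ * (s * s) = 1 by field_simp, one_smul]
    have hY' : Y' ∈ G.comap (psiU i) := by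
      rw [Subgroup.mem_comap, ← inv_mul_cancel_left (fu i a') (psiU i Y'), ← e]
      exact G.mul_mem (G.inv_mem (hG.sp i a' ha')) hx
    rw [e]
    exact (mst k (t + 1) F).mul_mem (fu_mem_mst i a')
      (psiU_mem_mst i (ih _ (cut_eover (by omega) hG i) (cut_nr2 (by omega) hR i) hY'))

/-- The quadratic form does not depend on the factor used to define it. -/
theorem quadT_eq (h2 : (2 : F) = 0) (S : Std k F) (l l' : Fin t) : quadT S l = quadT S l' := by
  classical
  have C := space S l (par_two h2 t)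
  have C' := space S l' (par_two h2 t)
  funext v
  refine sub_eq_zero.1 (quad_ext (D := fun v => quadT S l v - quadT S l' v) (fun u w => ?_) (fun c u => ?_)
    (fun a => by simp only [quadT_single, sub_self]) v)
  · rw [C.add, C'.add]; ring
  · rw [C.smul, C'.smul]; ring

/-- Maximality in characteristic two. -/
theorem isMaximalIn_even [Fintype F] {n : ℕ} (hn : 13 ≤ n) (Q : (Fin n → F) → F)
    (hQ : IsNondegenerateQuadraticForm Q) (ht : 2 ≤ t) (hodd : ¬ Odd (Fintype.card F)) (hk : 6 ≤ k)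
    (e : Fin n ≃ Idx k t) (P : GL (Fin n) F) (f₁ : (Fin k → F) → (Fin k → F) → F) (hf₁ : IsSymplecticForm f₁)
    (hT : IsTensorPowerFormStructure id (QuadraticMap.polar Q) f₁ e P)
    (hpure : ∀ xs : Fin t → Fin k → F, Q (P.val *ᵥ ((fun a => ∏ i, xs i (a i)) ∘ e)) = 0) :
    IsMaximalIn (omegaGL Q) (tensorWreathSubgroup k t e P ⊓ omegaGL Q) := by
  classical
  have h2 : (2 : F) = 0 := by
    have h : ringChar F = 2 :=
      FiniteField.even_card_iff_char_two.2 (Nat.even_iff.1 (Nat.not_odd_iff_even.1 hodd))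
    have h' : CharP F 2 := h ▸ ringChar.charP F
    exact_mod_cast CharP.cast_eq_zero F 2
  have h5 : 5 ≤ Fintype.card (Idx k t) := by
    rw [← Fintype.card_congr e, Fintype.card_fin]; omega
  refine isMaximalIn_of hn Q hQ ht (par_two h2 t) e P f₁ hf₁ hT hpure fun S l G hle hOver hover => ?_
  obtain ⟨t', rfl⟩ : ∃ t', t = t' + 1 := ⟨t - 1, by omega⟩
  have hE : EOver S G := ⟨fun g hg => by
      obtain ⟨y, -, rfl⟩ := hle hg
      exact isoT_of_iso S l (par_two h2 _) y.2,
    hOver.sp, fun σ hσ => hover ⟨permGL_mem_mst σ, permGL_omega S l (par_two h2 _) h5 hσ⟩⟩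
  rw [quadT_eq h2 S l 0] at hle hover ⊢
  by_cases hR : NR2 S G
  · exact Or.inl (le_mst2 h2 hk (t' + 1) G hE hR)
  · exact Or.inr (omega_le_of_rich2 h2 hk (by omega) h5 hle hE hover hR)

end Cfsg.Lib.Linear.OWreath
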