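import Cfsg.Agent.Lib.Linear.OWreath.Bridge
import Cfsg.Agent.Lib.Linear.OWreath.Alg2
import Cfsg.Agent.Lib.Linear.SpWreath.Cut

/-!
# Characteristic two: coefficients of the short elements of a factor, as matrices
-/

set_option autoImplicit false
set_option linter.unusedSectionVars false

namespace Cfsg.Lib.Linear.OWreath

open Cfsg.Geo Cfsg.Lib.Linear.AschGen Cfsg.Lib.Linear.TWreath
open Cfsg.Lib.Linear.SpWreath (Std)
open Cfsg.Lib.Linear.SpTensor (InA)
open scoped Matrix MatrixGroups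

variable {F : Type*} [Field F] {k t : ℕ}

theorem par_two (h2 : (2 : F) = 0) (n : ℕ) : (-1 : F) ^ n = 1 := by
  rw [show (-1 : F) = 1 from neg_eq_of_add_eq_zero_left (by rw [one_add_one_eq_two]; exact h2), one_pow]

/-- A group of isometries of the tensor power with the isometries of the factors and their even
permutations. -/
structure EOver (S : Std k F) (G : Subgroup (GL (Idx k t) F)) : Prop where
  iso : ∀ g ∈ G, S.IsoT g.val
  sp : ∀ (i : Fin t) (a : GL (Fin k) F), S.Iso a → fu i a ∈ G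
  perm : ∀ σ : Equiv.Perm (Fin t), Equiv.Perm.sign σ = 1 → (permGL σ : GL (Idx k t) F) ∈ G

theorem EOver.toS {S : Std k F} {G : Subgroup (GL (Idx k t) F)} (hG : EOver S G) : S.SOver G :=
  ⟨fun g hg => ⟨1, by rw [one_smul]; exact hG.iso g hg⟩, hG.sp,
    fun σ hσ => ⟨permGL σ, hG.perm σ hσ, rfl⟩⟩

variable (S : Std k F)

/-- The short map of two vectors of a factor with a coefficient, as a matrix. -/
def shM (i : Fin t) (x y : Fin k → F) (Ψ : Matrix (Idx k t) (Idx k t) F) : Matrix (Idx k t) (Idx k t) F :=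
  fa i (Matrix.vecMulVec x (S.dual y)) * Ψ + fa i (Matrix.vecMulVec y (S.dual x)) * S.adT Ψ

/-- The coefficient is available at every orthogonal pair of the factor. -/
def MGood (G : Subgroup (GL (Idx k t) F)) (i : Fin t) (Ψ : Matrix (Idx k t) (Idx k t) F) : Prop :=
  Com i Ψ ∧ ∀ x y : Fin k → F, x ≠ 0 → y ∉ Submodule.span F {x} → formW S x y = 0 →
    InM G (1 + shM S i x y Ψ)

/-- Only scalar coefficients are available. -/
def NR2 (G : Subgroup (GL (Idx k t) F)) : Prop :=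
  ∀ i Ψ, MGood S G i Ψ → ∃ c : F, Ψ = c • 1

variable {S}

theorem MGood.conj {G : Subgroup (GL (Idx k t) F)} (hG : EOver S G) {i j : Fin t}
    {Ψ : Matrix (Idx k t) (Idx k t) F} (h : MGood S G i Ψ) {g : GL (Idx k t) F} (hg : g ∈ G)
    (ha : Acts g i j 1) : MGood S G j (conjA g Ψ) := by
  refine ⟨ha.com h.1, fun x y hx hy hxy => ?_⟩
  have h1 := (h.2 x y hx hy hxy).conj hg
  rw [shM, map_add, map_one, map_add, map_mul, map_mul, ha, ha, conjA_one, conjA_one,
    ← Std.adT_conjA hG.toS hg] at h1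
  exact h1

theorem inA_iff {ι : Type} [Fintype ι] [DecidableEq ι] {G : Subgroup (GL ι F)}
    (f : (ι → F) →ₗ[F] (ι → F)) :
    InA G f ↔ ∃ g ∈ G, g.val = 1 + LinearMap.toMatrix' f := by
  refine ⟨fun ⟨g, hg, hgv⟩ => ⟨g, hg, Orth.mat_ext fun v => ?_⟩, fun ⟨g, hg, hgv⟩ => ⟨g, hg, fun v => ?_⟩⟩
  · rw [hgv, Matrix.add_mulVec, Matrix.one_mulVec, LinearMap.toMatrix'_mulVec]
  · rw [hgv, Matrix.add_mulVec, Matrix.one_mulVec, LinearMap.toMatrix'_mulVec]

variable (S)

/-- The splitting at a factor, in characteristic two. -/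
theorem tn (h2 : (2 : F) = 0) (ht : 0 < t) (i : Fin (t + 1)) :
    SpTensor.Ten (quadT S (0 : Fin (t + 1))) (formT S (t + 1)) (formT S t) (formW S) (tens i) :=
  ten S 0 ht (par_two h2 _) i

variable {S}
variable (h2 : (2 : F) = 0) (ht : 0 < t) (i : Fin (t + 1))
include h2 ht

theorem toMatrix_adj (φ : (Idx k t → F) →ₗ[F] (Idx k t → F)) :
    LinearMap.toMatrix' ((tn S h2 ht i).adj φ) = S.adT (LinearMap.toMatrix' φ) := by
  have T := tn S h2 ht i
  refine Orth.mat_ext fun v => T.α_ext fun c => ?_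
  rw [LinearMap.toMatrix'_mulVec, T.α_adj, formT_dualT, formT_dualT S (_ *ᵥ v), ← Std.dualT_vecMul, S.adT_adT,
    ← Matrix.dotProduct_mulVec, LinearMap.toMatrix'_mulVec]

theorem lin_mat (x y : Fin k → F) (φ : (Idx k t → F) →ₗ[F] (Idx k t → F)) :
    LinearMap.toMatrix' ((tn S h2 ht i).lin x y φ) =
      fa i (Matrix.vecMulVec x (S.dual y)) * psi i (LinearMap.toMatrix' φ) := by
  refine Orth.mat_ext fun v => ?_
  rw [LinearMap.toMatrix'_mulVec, lin_eq S 0 ht (par_two h2 _) i, neg_eq_of_two h2]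

theorem sh_mat (x y : Fin k → F) (φ : (Idx k t → F) →ₗ[F] (Idx k t → F)) :
    LinearMap.toMatrix' ((tn S h2 ht i).sh x y φ) = shM S i x y (psi i (LinearMap.toMatrix' φ)) := by
  rw [SpTensor.Ten.sh, map_add, lin_mat h2 ht, lin_mat h2 ht, toMatrix_adj h2 ht, shM, Std.adT_psi]

theorem good_iff {G : Subgroup (GL (Idx k (t + 1)) F)} (φ : (Idx k t → F) →ₗ[F] (Idx k t → F)) :
    SpTensor.Good (tn S h2 ht i) G φ ↔ MGood S G i (psi i (LinearMap.toMatrix' φ)) := by
  constructor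
  · intro h
    refine ⟨com_psi i _, fun x y hx hy hxy => ?_⟩
    obtain ⟨g, hg, hgv⟩ := (inA_iff _).1 (h x y hx hy hxy)
    exact ⟨g, hg, by rw [hgv, sh_mat h2 ht]⟩
  · intro h x y hx hy hxy
    obtain ⟨g, hg, hgv⟩ := h.2 x y hx hy hxy
    exact (inA_iff _).2 ⟨g, hg, by rw [hgv, sh_mat h2 ht]⟩

variable {G : Subgroup (GL (Idx k (t + 1)) F)}

theorem overR (hG : EOver S G) : SpTensor.OverR (tn S h2 ht i) G :=
  ⟨fun g hg => (isoT_iff S _).1 (hG.iso g hg), fun z c => (inA_iff _).2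
    ⟨fu i (S.trv z c), hG.sp i _ (S.iso_trv z c), by
      rw [map_smul, lin_mat h2 ht, LinearMap.toMatrix'_id, map_one, mul_one, fu_val, S.trv_val, map_add, map_one,
        map_smul]
      rfl⟩⟩

theorem not_rich (hk : 0 < k) (hR : NR2 S G) : ¬ SpTensor.Rich G (tn S h2 ht i) := by
  rintro ⟨φ, hφ, hns⟩
  obtain ⟨c, hc⟩ := hR i _ ((good_iff h2 ht i φ).1 hφ)
  refine hns c (LinearMap.toMatrix'.injective (psi_injective hk i ?_))
  rw [hc, map_smul, map_smul, LinearMap.toMatrix'_id, map_one]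

end Cfsg.Lib.Linear.OWreath
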