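import Cfsg.Agent.Lib.Linear.OWreath.EvenCtx
import Cfsg.Agent.Lib.Linear.OWreath.Alg2
import Cfsg.Agent.Lib.Linear.TWreath.EvenBasic
import Cfsg.Agent.Lib.Linear.TWreath.EvenMain

/-!
# Characteristic two: nothing is moved in a group without rich coefficients
-/

set_option autoImplicit false
set_option linter.unusedSectionVars false

namespace Cfsg.Lib.Linear.OWreath

open Cfsg.Geo Cfsg.Lib.Linear.AschGen Cfsg.Lib.Linear.TWreath
open Cfsg.Lib.Linear.SpWreath (Std)
open scoped Matrix MatrixGroups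

variable {F : Type*} [Field F] {k t : ℕ} {S : Std k F}

theorem commute_closure {Γ : Type*} [Group Γ] {l a b y : Γ} (ha : Commute l a) (hb : Commute l b)
    (hy : y ∈ Subgroup.closure ({a, b} : Set Γ)) : Commute l y := by
  have := (Subgroup.closure_le (Subgroup.centralizer ({l} : Set Γ))).2
    (Set.insert_subset (Subgroup.mem_centralizer_iff.2 fun z hz => by rw [Set.mem_singleton_iff.1 hz]; exact ha.eq)
      (Set.singleton_subset_iff.2 (Subgroup.mem_centralizer_iff.2 fun z hz => by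
        rw [Set.mem_singleton_iff.1 hz]; exact hb.eq))) hy
  exact Subgroup.mem_centralizer_iff.1 this l rfl

theorem inv_eq_of_scalar (h2 : (2 : F) = 0) (hk : 0 < k) {A B : GL (Fin k) F} (hA : A * A = 1) (hB : B * B = 1)
    {e : F} (he : (A * B).val = e • 1) : A = B := by
  have : Nonempty (Fin k) := ⟨⟨0, hk⟩⟩
  have h4 : A.val = e • B.val := by
    have h3 := congrArg (· * B.val) he
    simpa only [← Units.val_mul, mul_assoc, hB, mul_one, smul_mul_assoc, one_mul] using h3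
  have h5 := congrArg Units.val hA
  rw [Units.val_mul, h4, smul_mul_smul_comm, ← Units.val_mul, hB, Units.val_one] at h5
  refine Units.ext ?_
  rw [h4, eq_one_of_sq h2 (smul_left_injective F (one_ne_zero (α := Matrix (Fin k) (Fin k) F))
    (h5.trans (one_smul F _).symm)), one_smul]

theorem trv_sq (h2 : (2 : F) = 0) (u : Fin k → F) : S.trv u 1 * S.trv u 1 = 1 := by
  have h : (S.trv u 1)⁻¹ = S.trv u 1 := Units.ext (by
    rw [S.trv_inv_val, S.trv_val, one_smul, sub_eq_add_neg, neg_eq_of_two h2])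
  conv_lhs => arg 1; rw [← h]
  exact inv_mul_cancel _

theorem trv_comm {u v : Fin k → F} (h : S.dual u ⬝ᵥ v = 0) : Commute (S.trv u 1) (S.trv v 1) := by
  have h' : S.dual v ⬝ᵥ u = 0 := by rw [S.dual_dot_comm, h, neg_zero]
  refine TWreath.commute_val ?_
  rw [S.trv_val, S.trv_val, one_smul, one_smul]
  refine TWreath.commute_one_add ?_
  show _ = _
  rw [Std.nr, Std.nr, Matrix.vecMulVec_mul_vecMulVec, Matrix.vecMulVec_mul_vecMulVec, h, h']
  simp

theorem trv_mul_val {u v : Fin k → F} (h : S.dual u ⬝ᵥ v = 0) :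
    (S.trv u 1 * S.trv v 1).val = 1 + (S.nr u + S.nr v) := by
  have e : S.nr u * S.nr v = 0 := by
    rw [Std.nr, Std.nr, Matrix.vecMulVec_mul_vecMulVec, h]
    simp
  rw [Units.val_mul, S.trv_val, S.trv_val, one_smul, one_smul, add_mul, one_mul, mul_add, mul_one, e, add_zero]
  abel

theorem nr_mulVec (u x : Fin k → F) : S.nr u *ᵥ x = (S.dual u ⬝ᵥ x) • u := by
  rw [Std.nr, Matrix.vecMulVec_mulVec, op_smul_eq_smul]

theorem trv_ne (h2 : (2 : F) = 0) (hk : 0 < k) {u w : Fin k → F} (_hu : u ≠ 0) (hw : ∀ c : F, w ≠ c • u)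
    (e : F) : (S.trv w 1 * S.trv u 1).val ≠ e • 1 := fun he => by
  have h := congrArg Units.val (inv_eq_of_scalar h2 hk (trv_sq h2 w) (trv_sq h2 u) he)
  rw [S.trv_val, S.trv_val, one_smul, one_smul] at h
  obtain ⟨z, hz⟩ := S.exists_dual_ne (u := w) (fun h0 => hw 0 (by rw [h0, zero_smul]))
  have h1 := congrArg (· *ᵥ z) (add_left_cancel h)
  simp only [nr_mulVec] at h1
  exact hw ((S.dual w ⬝ᵥ z)⁻¹ * (S.dual u ⬝ᵥ z))
    (by rw [← smul_smul, ← h1, smul_smul, inv_mul_cancel₀ hz, one_smul])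

theorem commute_trv (_h2 : (2 : F) = 0) {M : GL (Fin k) F} {s : F} (hM : S.ad M.val * M.val = (s * s) • 1)
    (hs : s ≠ 0) {z : Fin k → F} (hz : M.val *ᵥ z = s • z) : Commute M (S.trv z 1) := by
  refine TWreath.commute_val ?_
  rw [S.trv_val, one_smul]
  refine (Commute.one_right _).add_right ?_
  have hd : S.dual z ᵥ* M.val = s • S.dual z := by
    have h1 := congrArg (S.dual z ᵥ* ·) hM
    simp only [← Matrix.vecMul_vecMul, dual_ad, hz, S.dual_smul, Matrix.smul_vecMul, Matrix.vecMul_smul,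
      Matrix.vecMul_one] at h1
    have h3 := congrArg (s⁻¹ • ·) h1
    simpa [smul_smul, inv_mul_cancel_left₀ hs, ← mul_assoc, inv_mul_cancel₀ hs] using h3
  show _ = _
  rw [Std.nr, Matrix.mul_vecMulVec, Matrix.vecMulVec_mul, hz, hd, Matrix.smul_vecMulVec, Matrix.vecMulVec_smul]

theorem exists_ker2 {N N' : Matrix (Fin k) (Fin k) F} (hN : N * N = 0) (hN' : N' * N' = 0) (h : Commute N N')
    {x : Fin k → F} (hx : x ≠ 0) : ∃ z, z ≠ 0 ∧ N *ᵥ z = 0 ∧ N' *ᵥ z = 0 := by
  obtain ⟨z1, hz1, hz1'⟩ : ∃ z1, z1 ≠ 0 ∧ N' *ᵥ z1 = 0 := by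
    by_cases h0 : N' *ᵥ x = 0
    · exact ⟨x, hx, h0⟩
    · exact ⟨N' *ᵥ x, h0, by rw [Matrix.mulVec_mulVec, hN', Matrix.zero_mulVec]⟩
  by_cases h0 : N *ᵥ z1 = 0
  · exact ⟨z1, hz1, h0, hz1'⟩
  · exact ⟨N *ᵥ z1, h0, by rw [Matrix.mulVec_mulVec, hN, Matrix.zero_mulVec],
      by rw [Matrix.mulVec_mulVec, ← h.eq, ← Matrix.mulVec_mulVec, hz1', Matrix.mulVec_zero]⟩

theorem ad_acts (hk : 0 < k) {g : GL (Idx k t) F} (hg : S.IsoT g.val) {i : Fin t} {a : GL (Fin k) F}
    (ha : Acts g i i a) : ∃ c : F, S.ad a.val * a.val = c • 1 := by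
  have : Nonempty (Fin k) := ⟨⟨0, hk⟩⟩
  have hgi : S.adT g.val = (g⁻¹).val := left_inv_eq_right_inv hg (Units.mul_inv g)
  have hfix : ∀ Z, S.ad a.val * a.val * Z = Z * (S.ad a.val * a.val) := by
    intro Z
    have h1 : g.val * fa i (S.ad Z) = fa i (conjA a (S.ad Z)) * g.val := by
      rw [← ha (S.ad Z), conjA_apply, mul_assoc _ (g⁻¹).val, Units.inv_mul, mul_one]
    have h3 := congrArg S.adT h1
    rw [S.adT_mul, S.adT_mul, S.adT_fa, S.adT_fa, S.ad_ad, hgi, conjA_apply, S.ad_mul, S.ad_mul, S.ad_ad] at h3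
    have h4 := congrArg (fun Y => g.val * Y * g.val) h3
    simp only [mul_assoc, Units.inv_mul, mul_one] at h4
    rw [← mul_assoc g.val (g⁻¹).val, Units.mul_inv, one_mul] at h4
    have h5 : g.val * fa i Z = fa i (conjA a Z) * g.val := by
      rw [← ha Z, conjA_apply, mul_assoc _ (g⁻¹).val, Units.inv_mul, mul_one]
    have h6 : conjA a Z = S.ad (a⁻¹).val * (Z * S.ad a.val) := fa_injective hk i (g.isUnit.mul_left_injective
      (h5.symm.trans h4))
    have h7 := congrArg (fun Y => S.ad a.val * Y * a.val) h6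
    simp only [conjA_apply, ← mul_assoc] at h7
    rw [← S.ad_mul, Units.inv_mul, S.ad_one, one_mul] at h7
    simpa only [mul_assoc, Units.inv_mul, mul_one] using h7
  obtain ⟨c, hc⟩ := Matrix.mem_range_scalar_of_commute_single (M := S.ad a.val * a.val) fun i j _ =>
    (hfix (Matrix.single i j 1)).symm
  exact ⟨c, by rw [← hc, Matrix.scalar_apply, ← Matrix.smul_one_eq_diagonal]⟩

variable {G : Subgroup (GL (Idx k (t + 1)) F)}

theorem ECtx.iso_of_fu (C : ECtx S G) {i : Fin (t + 1)} {L : GL (Fin k) F} (h : fu i L ∈ G) : S.Iso L :=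
  fa_injective (by have := C.hk; omega) i (by rw [map_mul, map_one, ← S.adT_fa, ← fu_val]; exact C.hov.iso _ h)

theorem IsTv2.conj [Finite F] (C : ECtx S G) {s g : GL (Idx k (t + 1)) F} {i : Fin (t + 1)} (hs : IsTv2 S s i)
    (hg : g ∈ G) (hgm : g ∈ mst k (t + 1) F) : ∃ j, IsTv2 S (g * s * g⁻¹) j :=
  C.isTv_of_mem (hs.isD.conj hg)
    ((mst k (t + 1) F).mul_mem ((mst k (t + 1) F).mul_mem hgm (hs.toTv C).mem_mst) ((mst k (t + 1) F).inv_mem hgm))

variable [Finite F] (C : ECtx S G)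
include C

/-- The even case: a conjugate inside the stabiliser and the central involution. -/
theorem even_tv {s b : GL (Idx k (t + 1)) F} {i : Fin (t + 1)} (hs : IsTv2 S s i) (hb : IsD2 S G b)
    (he : Even (orderOf (s * b))) :
    ∃ b' y c j, y ∈ Subgroup.closure ({s, b} : Set (GL (Idx k (t + 1)) F)) ∧ b' = y * b * y⁻¹ ∧ IsTv2 S b' j ∧
      c ∈ G ∧ Commute c b ∧ Commute c s ∧ (Commute s b' → c = s * b') ∧
      (j = i → ∃ L : GL (Fin k) F, c = fu i L ∧ S.Iso L ∧ L ≠ 1 ∧ L * L = 1) := by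
  obtain ⟨b', y, c, hy, hb', hp, hcc, hc1, hc2, hcs, hcb, hcm⟩ :=
    Dihedral.of_even (hs.isD.sq C) (hb.sq C) he
  have hyG : y ∈ G := (Subgroup.closure_le _).2 (Set.insert_subset (hs.mem C)
    (Set.singleton_subset_iff.2 (hb.mem C))) hy
  have hb'D : IsD2 S G b' := hb' ▸ hb.conj hyG
  have : Fact (Nat.Prime 2) := ⟨Nat.prime_two⟩
  obtain ⟨j, hj⟩ := C.isTv_of_mem hb'D (C.not_pgroup 2 hs hb'D hp)
  have hcG : c ∈ G := (Subgroup.closure_le _).2 (Set.insert_subset (hs.mem C)
    (Set.singleton_subset_iff.2 (hj.mem C))) hcc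
  refine ⟨b', y, c, j, hy, hb', hj, hcG, hcb, hcs, hcm, fun hji => ?_⟩
  subst hji
  obtain ⟨A, -, hA⟩ := hs
  obtain ⟨B, -, hB⟩ := hj
  have hle : Subgroup.closure ({s, b'} : Set (GL (Idx k (t + 1)) F)) ≤ (fu (m := k) (F := F) j).range :=
    (Subgroup.closure_le _).2 (Set.insert_subset ⟨_, hA.symm⟩ (Set.singleton_subset_iff.2 ⟨_, hB.symm⟩))
  obtain ⟨L, hL⟩ := hle hcc
  have hinj : Function.Injective (fu (t := t + 1) (m := k) (F := F) j) := fun X Y h =>
    Units.ext (fa_injective (by have := C.hk; omega) j (congrArg Units.val h))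
  exact ⟨L, hL.symm, C.iso_of_fu (hL ▸ hcG), fun h => hc1 (by rw [← hL, h, map_one]),
    hinj (by rw [map_mul, hL, hc2, map_one])⟩

/-- The centraliser of two commuting transvections of different factors. -/
theorem cent_two {i j : Fin (t + 1)} (hij : i ≠ j) {u1 u2 : Fin k → F} (hu1 : u1 ≠ 0) (hu2 : u2 ≠ 0)
    {x : GL (Idx k (t + 1)) F} (hx : x ∈ G) (hc : Commute x (fu i (S.trv u1 1) * fu j (S.trv u2 1))) :
    x ∈ mst k (t + 1) F := by
  classical
  have hm := C.hm
  have h2 := C.h2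
  by_contra hxm
  obtain ⟨w, hwu, hw0, hw⟩ := Rat0.exists_perp_notMem (by simpa using hm) (S.dual u1) u1
  rw [dotProduct_comm] at hwu
  set T1 := S.trv u1 1 with hT1
  set T2 := S.trv u2 1 with hT2
  set E := S.trv w 1 with hE
  set τ1 := fu i T1 with hτ1
  set τ2 := fu j T2 with hτ2
  set ε := fu i E with hε
  set l := τ1 * τ2 with hl
  have h1 : IsTv2 S τ1 i := ⟨u1, hu1, rfl⟩
  have h2' : IsTv2 S τ2 j := ⟨u2, hu2, rfl⟩
  have hεT : IsTv2 S ε i := ⟨w, hw0, rfl⟩
  have hc12 : Commute τ1 τ2 := TWreath.commute_fu hij _ _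
  have hc1ε : Commute τ1 ε := (trv_comm hwu).map (fu i)
  have hc2ε : Commute τ2 ε := TWreath.commute_fu hij.symm _ _
  have hlε : Commute l ε := hc1ε.mul_left hc2ε
  have hl1 : Commute l τ1 := (Commute.refl τ1).mul_left hc12.symm
  have hτ11 : τ1 * τ1 = 1 := h1.isD.sq C (G := G)
  have hτ22 : τ2 * τ2 = 1 := h2'.isD.sq C (G := G)
  have hTs : ∀ {z : Fin k → F}, z ≠ 0 → ∀ e : F, (S.trv z 1).val ≠ e • 1 := fun {z} hz e => by
    obtain ⟨a, ha⟩ : TWreath.IsTv C.hm (fu i (S.trv z 1)) i := IsTv2.toTv C ⟨z, hz, rfl⟩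
    rw [show S.trv z 1 = a * tv0 C.hm * a⁻¹ from Units.ext (fa_injective (by omega) i (congrArg Units.val ha))]
    exact tv0_ne_scalar _ a e
  set b := x * τ1 * x⁻¹ with hb
  have hbD : IsD2 S G b := h1.isD.conj hx
  have hbm : b ∉ mst k (t + 1) F := fun h => by
    obtain ⟨p, hp⟩ := C.isTv_of_mem hbD h
    exact hxm (C.mem_of_tv hx h1 hp)
  have hlb : Commute l b := by
    rw [hb]
    exact (hc.symm.mul_right hl1).mul_right hc.symm.inv_right
  have hcl : ∀ y ∈ Subgroup.closure ({ε, b} : Set (GL (Idx k (t + 1)) F)), y ∈ G ∧ Commute l y := fun y hy =>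
    ⟨(Subgroup.closure_le _).2 (Set.insert_subset (hεT.mem C) (Set.singleton_subset_iff.2 (hbD.mem C))) hy,
      commute_closure hlε hlb hy⟩
  -- elements of the centraliser carrying the first transvection to a transvection
  have key : ∀ g ∈ G, Commute l g → ∀ p, IsTv2 S (g * τ1 * g⁻¹) p →
      ∃ p', IsTv2 S (g * τ1 * g⁻¹ * l) p' := by
    intro g hg hgl p hp
    have e : g * τ1 * g⁻¹ * l = g * τ2 * g⁻¹ := by
      have e1 : l = g * l * g⁻¹ := by rw [← hgl.eq, mul_inv_cancel_right]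
      conv_lhs => arg 2; rw [e1]
      rw [hl, show g * τ1 * g⁻¹ * (g * (τ1 * τ2) * g⁻¹) = g * ((τ1 * τ1) * τ2) * g⁻¹ by group, hτ11, one_mul]
    rw [e]
    exact h2'.conj C hg (C.mem_of_tv hg h1 hp)
  -- a product with components in two factors is not a transvection
  have two : ∀ (A B : GL (Fin k) F) p, IsTv2 S (fu i A * fu j B) p →
      (∀ c : F, A.val ≠ c • 1) → (∀ c : F, B.val ≠ c • 1) → False := by
    intro A B p hp hA hB
    rcases eq_or_ne i p with rfl | hip
    · obtain ⟨e, he⟩ := (hp.toTv C).acts_ne hij.symm ((acts_fu_ne hij.symm A).mul (acts_fu j B))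
      exact hB e (by simpa using he)
    · obtain ⟨e, he⟩ := (hp.toTv C).acts_ne hip ((acts_fu i A).mul (acts_fu_ne hij B))
      exact hA e (by simpa using he)
  have hET : ∀ e : F, (E * T1).val ≠ e • 1 := trv_ne h2 (by omega) hu1 hw
  rcases Nat.even_or_odd (orderOf (ε * b)) with he | ho
  · obtain ⟨b', y, c, p, hy, hb', hp, -, hcb, -, hcm, -⟩ := even_tv C hεT hbD he
    have hb'x : b' = (y * x) * τ1 * (y * x)⁻¹ := by rw [hb', hb]; group
    have hgl : Commute l (y * x) := (hcl y hy).2.mul_right hc.symm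
    obtain ⟨p', hp'⟩ := key _ (G.mul_mem (hcl y hy).1 hx) hgl p (hb'x ▸ hp)
    rw [← hb'x] at hp'
    obtain ⟨z, hz, ha⟩ := hp
    have hcent : Commute b (fu i (E * T1)) → False := fun h => hbm <|
      C.cent_one (Std.Iso.mul S (S.iso_trv _ _) (S.iso_trv _ _))
        (fun e => hET 1 (by rw [e, Units.val_one, one_smul]))
        (by rw [(trv_comm hwu).mul_mul_mul_comm, trv_sq h2, trv_sq h2, one_mul]) (hbD.mem C) h
    rcases eq_or_ne p i with rfl | hpi
    · -- the conjugate is the first transvection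
      have hform : b' * l = fu p (S.trv z 1 * T1) * fu j T2 := by
        rw [ha, hl, hτ1, hτ2, ← mul_assoc, ← map_mul]
      have hT : ∃ e : F, (S.trv z 1 * T1).val = e • 1 := by
        by_contra hne
        push Not at hne
        exact two _ _ p' (hform ▸ hp') hne (hTs hu2)
      obtain ⟨e, he⟩ := hT
      have hb1 : b' = τ1 := by rw [ha, hτ1, inv_eq_of_scalar h2 (by omega) (trv_sq h2 z) (trv_sq h2 u1) he]
      have hcε : c = ε * τ1 := by rw [hcm (by rw [hb1]; exact hc1ε.symm), hb1]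
      refine hcent ?_
      rw [map_mul, ← hτ1, ← hε, ← hcε]
      exact hcb.symm
    · rcases eq_or_ne p j with rfl | hpj
      · have hform : b' * l = fu i T1 * fu p (S.trv z 1 * T2) := by
          rw [ha, hl, hτ1, hτ2, ← mul_assoc, (TWreath.commute_fu hpi _ _).eq, mul_assoc, ← map_mul]
        have hT : ∃ e : F, (S.trv z 1 * T2).val = e • 1 := by
          by_contra hne
          push Not at hne
          exact two _ _ p' (hform ▸ hp') (hTs hu1) hne
        obtain ⟨e, he⟩ := hT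
        have hb1 : b' = τ2 := by rw [ha, hτ2, inv_eq_of_scalar h2 (by omega) (trv_sq h2 z) (trv_sq h2 u2) he]
        have hcε : c = ε * τ2 := by rw [hcm (by rw [hb1]; exact hc2ε.symm), hb1]
        refine hcent ?_
        have : c * l = fu i (E * T1) := by
          rw [hcε, hl, hc12.eq, ← mul_assoc, mul_assoc ε τ2 τ2, hτ22, mul_one, map_mul]
        rw [← this]
        exact hcb.symm.mul_right hlb.symm
      · -- three components
        rcases eq_or_ne i p' with rfl | hip'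
        · obtain ⟨e, he⟩ := (hp'.toTv C).acts_ne hij.symm (a := 1 * (1 * T2)) (by
            rw [ha, hl, hτ1, hτ2]
            exact (acts_fu_ne hpj.symm _).mul ((acts_fu_ne hij.symm _).mul (acts_fu j _)))
          rw [one_mul, one_mul] at he
          exact hTs hu2 e he
        · obtain ⟨e, he⟩ := (hp'.toTv C).acts_ne hip' (a := 1 * (T1 * 1)) (by
            rw [ha, hl, hτ1, hτ2]
            exact (acts_fu_ne hpi.symm _).mul ((acts_fu i _).mul (acts_fu_ne hij _)))
          rw [mul_one, one_mul] at he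
          exact hTs hu1 e he
  · obtain ⟨y, hy, hyb⟩ := Dihedral.conj_of_odd (hεT.isD.sq C (G := G)) (hbD.sq C) ho
    set g := y⁻¹ * x with hg
    have hgε : g * τ1 * g⁻¹ = ε := by
      calc g * τ1 * g⁻¹ = y⁻¹ * b * y := by rw [hg, hb]; group
        _ = ε := by rw [← hyb]; group
    obtain ⟨p', hp'⟩ := key g (G.mul_mem (G.inv_mem (hcl y hy).1) hx) ((hcl y hy).2.inv_right.mul_right hc.symm)
      i (by rw [hgε]; exact hεT)
    rw [hgε, hl, ← mul_assoc, hε, hτ1, ← map_mul, hτ2] at hp'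
    exact two (E * T1) T2 p' hp' hET (hTs hu2)

/-- A transvection and a moved conjugate are conjugate in the group they generate. -/
theorem conj_tv {s b : GL (Idx k (t + 1)) F} {i : Fin (t + 1)} (hs : IsTv2 S s i) (hb : IsD2 S G b)
    (hbm : b ∉ mst k (t + 1) F) :
    ∃ y ∈ Subgroup.closure ({s, b} : Set (GL (Idx k (t + 1)) F)), y * s * y⁻¹ = b := by
  rcases Nat.even_or_odd (orderOf (s * b)) with he | ho
  · obtain ⟨b', y, c, j, -, -, hj, -, hcb, -, hcm, hsame⟩ := even_tv C hs hb he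
    exfalso
    rcases eq_or_ne j i with hji | hji
    · obtain ⟨L, hL, hLi, hL1, hL2⟩ := hsame hji
      exact hbm (C.cent_one hLi hL1 hL2 (hb.mem C) (hL ▸ hcb.symm))
    · obtain ⟨u, hu, ha⟩ := hs
      obtain ⟨v, hv, hd⟩ := hj
      have : c = s * b' := hcm (by rw [ha, hd]; exact TWreath.commute_fu hji.symm _ _)
      rw [this, ha, hd] at hcb
      exact hbm (cent_two C hji.symm hu hv (hb.mem C) hcb.symm)
  · exact Dihedral.conj_of_odd (hs.isD.sq C (G := G)) (hb.sq C) ho

/-- An element commuting with two classes of transvections has its centraliser permuting the factors. -/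
theorem two_classes {l σ1 σ2 : GL (Idx k (t + 1)) F} {i j : Fin (t + 1)} (h1 : IsTv2 S σ1 i)
    (h2' : IsTv2 S σ2 j) (hl1 : Commute l σ1) (hl2 : Commute l σ2)
    (hno : ∀ g ∈ mst k (t + 1) F, Commute l g → g * σ1 * g⁻¹ ≠ σ2)
    {x : GL (Idx k (t + 1)) F} (hx : x ∈ G) (hc : Commute l x) : x ∈ mst k (t + 1) F := by
  by_contra hxm
  set b := x * σ1 * x⁻¹ with hb
  have hbD : IsD2 S G b := h1.isD.conj hx
  have hbm : b ∉ mst k (t + 1) F := fun h => by
    obtain ⟨p, hp⟩ := C.isTv_of_mem hbD h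
    exact hxm (C.mem_of_tv hx h1 hp)
  have hlb : Commute l b := (hc.mul_right hl1).mul_right hc.inv_right
  have hcl : ∀ {σ : GL (Idx k (t + 1)) F} {p : Fin (t + 1)}, IsTv2 S σ p → Commute l σ →
      ∃ y, y ∈ G ∧ Commute l y ∧ y * σ * y⁻¹ = b := fun {σ p} hσ hlσ => by
    obtain ⟨y, hy, hyb⟩ := conj_tv C hσ hbD hbm
    exact ⟨y, (Subgroup.closure_le _).2 (Set.insert_subset (hσ.mem C)
      (Set.singleton_subset_iff.2 (hbD.mem C))) hy, commute_closure hlσ hlb hy, hyb⟩
  obtain ⟨y1, hy1, hly1, e1⟩ := hcl h1 hl1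
  obtain ⟨y2, hy2, hly2, e2⟩ := hcl h2' hl2
  have e : (y2⁻¹ * y1) * σ1 * (y2⁻¹ * y1)⁻¹ = σ2 := by
    calc _ = y2⁻¹ * (y1 * σ1 * y1⁻¹) * y2 := by group
      _ = σ2 := by rw [e1, ← e2]; group
  exact hno _ (C.mem_of_tv (G.mul_mem (G.inv_mem hy2) hy1) h1 (e ▸ h2')) (hly2.inv_right.mul_right hly1) e

/-- In characteristic two nothing is moved. -/
theorem even_false {b : GL (Idx k (t + 1)) F} (hb : IsD2 S G b) (hbm : b ∉ mst k (t + 1) F) : False := by
  classical
  have h2 := C.h2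
  have hk : 0 < k := by have := C.hk; omega
  have hinj : ∀ i : Fin (t + 1), Function.Injective (fu (m := k) (F := F) i) := fun i X Y h =>
    Units.ext (fa_injective hk i (congrArg Units.val h))
  -- three indices in general position
  obtain ⟨pa, pb, pc, hab, hab', hca, hca', hcbp, hcb'⟩ : ∃ pa pb pc : Fin k,
      pb ≠ pa ∧ pb ≠ S.π pa ∧ pc ≠ pa ∧ pc ≠ S.π pa ∧ pc ≠ pb ∧ pc ≠ S.π pb := by
    obtain ⟨pa⟩ : Nonempty (Fin k) := ⟨⟨0, hk⟩⟩
    have hex : ∀ s : Finset (Fin k), s.card < k → ∃ p, p ∉ s := fun s hs => by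
      by_contra h
      push Not at h
      have : s = Finset.univ := Finset.eq_univ_of_forall h
      rw [this, Finset.card_univ, Fintype.card_fin] at hs
      exact lt_irrefl _ hs
    obtain ⟨pb, hpb⟩ := hex {pa, S.π pa} (Nat.lt_of_le_of_lt Finset.card_le_two (by have := C.hk; omega))
    obtain ⟨pc, hpc⟩ := hex {pa, S.π pa, pb, S.π pb}
      (Nat.lt_of_le_of_lt Finset.card_le_four (by have := C.hk; omega))
    simp at hpb hpc
    exact ⟨pa, pb, pc, hpb.1, hpb.2, hpc.1, hpc.2.1, hpc.2.2.1, hpc.2.2.2⟩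
  set u : Fin k → F := Pi.single pa 1 with hu
  set v : Fin k → F := Pi.single pb 1 with hv
  set w : Fin k → F := Pi.single pc 1 with hw
  have hd : ∀ (p : Fin k) (x : Fin k → F), S.dual (Pi.single p 1) ⬝ᵥ x = x (S.π p) := fun p x => by
    rw [S.dual_single, e_one S h2, one_smul, single_dotProduct, one_mul]
  have hu0 : u ≠ 0 := by simp [hu]
  have hv0 : v ≠ 0 := by simp [hv]
  have hw0 : w ≠ 0 := by simp [hw]
  have huv : S.dual u ⬝ᵥ v = 0 := by rw [hu, hd, hv]; simp [hab'.symm]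
  have huw : S.dual u ⬝ᵥ w = 0 := by rw [hu, hd, hw]; simp [hca'.symm]
  have hvw : S.dual v ⬝ᵥ w = 0 := by rw [hv, hd, hw]; simp [hcb'.symm]
  have hπab : S.π pb ≠ S.π pa := fun e => hab (S.π_inj e)
  set L := S.trv u 1 * S.trv v 1 with hLdef
  set N := S.nr u + S.nr v with hN
  have hLval : L.val = 1 + N := trv_mul_val huv
  have hLiso : S.Iso L := Std.Iso.mul S (S.iso_trv _ _) (S.iso_trv _ _)
  have hLL : L * L = 1 := by rw [hLdef, (trv_comm huv).symm.mul_mul_mul_comm, trv_sq h2, trv_sq h2, one_mul]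
  have hNNz : N * N = 0 := by
    have e := congrArg Units.val hLL
    rw [Units.val_mul, hLval, Units.val_one,
      show (1 + N) * (1 + N) = 1 + ((N + N) + N * N) by noncomm_ring, ← two_smul F N, h2, zero_smul, zero_add] at e
    exact add_eq_left.1 e
  have hNx : ∀ x : Fin k → F, N *ᵥ x = x (S.π pa) • u + x (S.π pb) • v := fun x => by
    rw [hN, Matrix.add_mulVec, nr_mulVec, nr_mulVec, hu, hv, hd, hd]
  have hu' : N *ᵥ Pi.single (S.π pa) 1 = u := by rw [hNx]; simp [hπab]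
  have hv' : N *ᵥ Pi.single (S.π pb) 1 = v := by rw [hNx]; simp [hπab.symm]
  have hLs : ∀ e : F, L.val ≠ e • 1 := fun e h => by
    have h1 := congrFun (congrArg (· *ᵥ Pi.single (S.π pa) (1 : F)) h) pa
    simp only [hLval, Matrix.add_mulVec, Matrix.one_mulVec, hu', Matrix.smul_mulVec] at h1
    simp [hu, (S.nofix pa).symm] at h1
  have hL1 : L ≠ 1 := fun h => hLs 1 (by rw [h, Units.val_one, one_smul])
  set y := fu (0 : Fin (t + 1)) L with hy
  have hyy : y * y = 1 := by rw [hy, ← map_mul, hLL, map_one]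
  have hyG : y ∈ G := C.hov.sp 0 L hLiso
  have hyD : ¬ IsD2 S G y := fun hD => by
    obtain ⟨p, z, hz, hpz⟩ := C.isTv_of_mem hD (fu_mem_mst _ _)
    rcases eq_or_ne p 0 with rfl | hp0
    · have h3 := congrArg Units.val (hinj _ hpz)
      rw [hLval, S.trv_val, one_smul] at h3
      have e1 := congrArg (· *ᵥ Pi.single (S.π pa) (1 : F)) (add_left_cancel h3)
      have e2 := congrArg (· *ᵥ Pi.single (S.π pb) (1 : F)) (add_left_cancel h3)
      simp only [hu', hv', nr_mulVec] at e1 e2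
      have q1 := congrFun e1 pa
      have q2 := congrFun e1 pb
      have q3 := congrFun e2 pb
      simp [hu, hv, hab] at q1 q2 q3
      rcases q2 with q2 | q2
      · rw [q2, zero_mul] at q1; exact one_ne_zero q1
      · rw [q2, mul_zero] at q3; exact one_ne_zero q3
    · obtain ⟨e, he⟩ := eq_of_fa_eq hk (Ne.symm hp0) (congrArg Units.val hpz)
      exact hLs e he
  rcases Nat.even_or_odd (orderOf (y * b)) with he | ho
  swap
  · obtain ⟨g, hg, hgb⟩ := Dihedral.conj_of_odd hyy (hb.sq C) ho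
    refine hyD ?_
    have : y = g⁻¹ * b * (g⁻¹)⁻¹ := by rw [← hgb]; group
    rw [this]
    exact hb.conj (G.inv_mem ((Subgroup.closure_le _).2
      (Set.insert_subset hyG (Set.singleton_subset_iff.2 (hb.mem C))) hg))
  obtain ⟨c, g, hc, hg, hc1, hcc, hcy, hcb, hrefl⟩ := Dihedral.reflection hyy (hb.sq C) he
  have hcl : Subgroup.closure ({y, b} : Set (GL (Idx k (t + 1)) F)) ≤ G :=
    (Subgroup.closure_le _).2 (Set.insert_subset hyG (Set.singleton_subset_iff.2 (hb.mem C)))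
  have hcent : ∀ x ∈ G, Commute x y → x ∈ mst k (t + 1) F := fun x hx hxy => C.cent_one hLiso hL1 hLL hx hxy
  have hcm : c ∈ mst k (t + 1) F := hcent c (hcl hc) hcy
  obtain ⟨a, ha, haL⟩ : ∃ a, Acts c 0 0 a ∧ Commute a L := by
    obtain ⟨σ, hσ⟩ := hcm
    obtain ⟨a, ha⟩ := hσ 0
    have h1 : fu (σ 0) (a * L * a⁻¹) = fu 0 L := by
      rw [← fu_conj_of_acts ha, ← hy, hcy.eq, mul_inv_cancel_right]
    have hσ0 : σ 0 = 0 := by
      by_contra hne
      obtain ⟨e, he⟩ := eq_of_fa_eq hk (Ne.symm hne) (congrArg Units.val h1).symm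
      exact hLs e he
    rw [hσ0] at h1 ha
    exact ⟨a, ha, mul_inv_eq_iff_eq_mul.1 (hinj _ h1)⟩
  obtain ⟨p, L', hcp, hL'iso, hL'2⟩ : ∃ p L', c = y * fu p L' ∧ S.Iso L' ∧ L' * L' = 1 := by
    have hcy' : ∀ {p L'}, y * c = fu p L' → c = y * fu p L' := fun h => by
      rw [← h, ← mul_assoc, hyy, one_mul]
    rcases hrefl with hz | hz
    · -- a transvection centralising the product puts the conjugating element in the stabiliser
      obtain ⟨e, he⟩ := comp_sq C.hm hcc ha
      obtain ⟨s, rfl⟩ := exists_sqrt h2 e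
      have : Nonempty (Fin k) := ⟨⟨0, hk⟩⟩
      have hs : s ≠ 0 := fun h0 => (a * a).isUnit.ne_zero (by rw [he, h0, mul_zero, zero_smul])
      obtain ⟨c0, hc0⟩ := ad_acts hk (C.hov.iso _ (hcl hc)) ha
      have hs2 : c0 = s * s := by
        have h4 : (s * s) • S.ad a.val = c0 • a.val := by
          rw [← mul_one (S.ad a.val), ← mul_smul_comm, ← he, Units.val_mul, ← mul_assoc, hc0, smul_mul_assoc,
            one_mul]
        have h5 := congrArg S.ad h4
        rw [S.ad_smul, S.ad_smul, S.ad_ad] at h5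
        have h6 : ((s * s) * (s * s)) • a.val = (c0 * c0) • a.val := by
          rw [← smul_smul, h5, smul_comm, h4, smul_smul]
        have h7 := smul_left_injective F a.isUnit.ne_zero h6
        have h8 : (c0 - s * s) * (c0 - s * s) = 0 := by linear_combination -h7 + (s * s * (s * s) - c0 * (s * s)) * h2
        exact sub_eq_zero.1 (mul_self_eq_zero.1 h8)
      set N' := a.val - s • (1 : Matrix (Fin k) (Fin k) F) with hN'
      have hN'N' : N' * N' = 0 := by
        have e : N' * N' = (a * a).val - ((2 : F) * s) • a.val + (s * s) • 1 := by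
          rw [hN', Units.val_mul]
          simp only [sub_mul, mul_sub, smul_mul_assoc, mul_smul_comm, one_mul, mul_one, two_mul,
            add_smul]
          module
        rw [e, h2, zero_mul, zero_smul, sub_zero, he, ← two_smul F, h2, zero_smul]
      have hNN' : Commute N N' := by
        have h9 : Commute (1 + N) a.val := by
          rw [← hLval]
          exact (haL.map (Units.coeHom _)).symm
        have h10 : Commute N a.val := by simpa using h9.sub_left (Commute.one_left a.val)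
        exact h10.sub_right ((Commute.one_right N).smul_right s)
      obtain ⟨z, hz0, hz1, hz2⟩ := exists_ker2 hNNz hN'N' hNN' hu0
      have hza : a.val *ᵥ z = s • z := by
        rw [hN', Matrix.sub_mulVec, Matrix.smul_mulVec, Matrix.one_mulVec] at hz2
        exact sub_eq_zero.1 hz2
      have hcomL : Commute L (S.trv z 1) := commute_trv h2 (s := 1) (by rw [one_mul, one_smul]; exact hLiso)
        one_ne_zero (by rw [hLval, Matrix.add_mulVec, Matrix.one_mulVec, hz1, add_zero, one_smul])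
      have hcoma : Commute a (S.trv z 1) := commute_trv h2 (by rw [hc0, hs2]) hs hza
      set M := fu (0 : Fin (t + 1)) (S.trv z 1) with hMdef
      have hM : IsTv2 S M 0 := ⟨z, hz0, rfl⟩
      have hcom : Commute (y * c) M := TWreath.commute_fu_of_acts ((acts_fu 0 L).mul ha) (hcomL.mul_left hcoma)
      rw [hz] at hcom
      have hsy : Commute (g⁻¹ * M * g) y := by
        have := congrArg (fun q => g⁻¹ * q * g) hcom.eq.symm
        show _ = _
        simpa [mul_assoc] using this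
      have hsD : IsD2 S G (g⁻¹ * M * g) := by simpa using hM.isD.conj (G.inv_mem (hcl hg))
      obtain ⟨q, hq⟩ := C.isTv_of_mem hsD (hcent _ (hsD.mem C) hsy)
      have hgm : g ∈ mst k (t + 1) F := C.mem_of_tv (hcl hg) hq (j := 0) (by
        have : g * (g⁻¹ * M * g) * g⁻¹ = M := by group
        rw [this]; exact hM)
      obtain ⟨σ, hσ⟩ := hgm
      obtain ⟨a', ha'⟩ := hσ 0
      rw [hy, fu_conj_of_acts ha'] at hz
      refine ⟨σ 0, _, hcy' hz, C.iso_of_fu (hz ▸ G.mul_mem hyG (hcl hc)), ?_⟩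
      rw [show a' * L * a'⁻¹ * (a' * L * a'⁻¹) = a' * (L * L) * a'⁻¹ by group, hLL]
      group
    · have hD : IsD2 S G (y * c) := by rw [hz]; exact hb.conj (hcl hg)
      obtain ⟨q, z, -, hq⟩ := C.isTv_of_mem hD ((mst k (t + 1) F).mul_mem (fu_mem_mst _ _) hcm)
      exact ⟨q, _, hcy' hq, S.iso_trv _ _, trv_sq h2 z⟩
  rcases eq_or_ne p 0 with rfl | hp0
  · rw [hy, ← map_mul] at hcp
    refine hbm (C.cent_one (i := 0) (L := L * L') (Std.Iso.mul S hLiso hL'iso)
      (fun h => hc1 (by rw [hcp, h, map_one])) ?_ (hb.mem C) (hcp ▸ hcb.symm))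
    exact hinj 0 (by rw [map_mul, ← hcp, hcc, map_one])
  have hAc : Acts c 0 0 L := by
    rw [hcp]
    simpa using (acts_fu (0 : Fin (t + 1)) L).mul (acts_fu_ne hp0.symm L')
  have hcomm : ∀ z : Fin k → F, Commute L (S.trv z 1) → Commute c (fu 0 (S.trv z 1)) := fun z h =>
    TWreath.commute_fu_of_acts hAc h
  refine hbm (two_classes C (σ1 := fu 0 (S.trv u 1)) (σ2 := fu 0 (S.trv w 1)) ⟨u, hu0, rfl⟩ ⟨w, hw0, rfl⟩
    (hcomm u ((Commute.refl _).mul_left (trv_comm huv).symm)) (hcomm w ((trv_comm huw).mul_left (trv_comm hvw)))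
    (fun g hg hgc he => ?_) (hb.mem C) hcb)
  obtain ⟨σ, hσ⟩ := hg
  obtain ⟨d, hd'⟩ := hσ 0
  rw [fu_conj_of_acts hd'] at he
  have hσ0 : σ 0 = 0 := by
    by_contra hne
    obtain ⟨e, he'⟩ := eq_of_fa_eq hk (Ne.symm hne) (congrArg Units.val he).symm
    obtain ⟨a0, ha0⟩ : TWreath.IsTv C.hm (fu (0 : Fin (t + 1)) (S.trv w 1)) 0 := IsTv2.toTv C ⟨w, hw0, rfl⟩
    rw [hinj _ ha0] at he'
    exact tv0_ne_scalar _ a0 e he'
  rw [hσ0] at he hd'
  have hdw : d * S.trv u 1 = S.trv w 1 * d := mul_inv_eq_iff_eq_mul.1 (hinj _ he)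
  have h3 := (hd'.mul hAc).mul hd'.inv
  rw [show g * c * g⁻¹ = c by rw [← hgc.eq, mul_inv_cancel_right]] at h3
  obtain ⟨e, he'⟩ := h3.unique hk hAc
  have hdL : d * L * d⁻¹ = L := by
    refine inv_eq_of_scalar h2 hk (e := e) ?_ hLL ?_
    · rw [show d * L * d⁻¹ * (d * L * d⁻¹) = d * (L * L) * d⁻¹ by group, hLL]
      group
    · rw [Units.val_mul, he', smul_mul_assoc, ← Units.val_mul, hLL, Units.val_one]
  have hdN : d.val * N = N * d.val := by
    have h5 := congrArg Units.val (mul_inv_eq_iff_eq_mul.1 hdL)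
    rw [Units.val_mul d L, Units.val_mul L d, hLval, mul_add, add_mul, mul_one, one_mul] at h5
    exact add_left_cancel h5
  have h6 := congrArg (fun M : GL (Fin k) F => M.val *ᵥ ((d⁻¹).val *ᵥ Pi.single (S.π pc) 1)) hdw
  simp only [Units.val_mul, S.trv_val, one_smul, mul_add, add_mul, mul_one, one_mul, Matrix.add_mulVec] at h6
  have h7 := add_left_cancel h6
  rw [← Matrix.mulVec_mulVec, ← Matrix.mulVec_mulVec, Matrix.mulVec_mulVec _ d.val (d⁻¹).val, Units.mul_inv,
    Matrix.one_mulVec, nr_mulVec, nr_mulVec, Matrix.mulVec_smul, hw, hd, hd, Pi.single_eq_same, one_smul] at h7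
  have h8 : d.val *ᵥ u = N *ᵥ (d.val *ᵥ Pi.single (S.π pa) 1) := by
    rw [Matrix.mulVec_mulVec, ← hdN, ← Matrix.mulVec_mulVec, hu']
  rw [h8, ← Matrix.mulVec_smul, hNx] at h7
  have h9 := congrFun h7 pc
  simp [hu, hv, hca, hcbp] at h9

/-- A group without rich coefficients permutes the factors, given the same for fewer factors. -/
theorem ECtx.le {x : GL (Idx k (t + 1)) F} (hx : x ∈ G) : x ∈ mst k (t + 1) F := by
  by_contra h
  obtain ⟨b, hb, hbm⟩ := C.exists_moved hx h
  exact even_false C hb hbm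

end Cfsg.Lib.Linear.OWreath
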