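import Cfsg.Agent.Lib.Linear.SpWreath.Gen
import Cfsg.Agent.Lib.Linear.SpTensor.Gen

/-!
# The quadratic form of a tensor power of a symplectic space, pure tensors being singular

When the sign of the tensor power is `+1` (an even number of factors, or characteristic two) the
sum over half of the paired basis vectors is a quadratic form whose polar form is the product form.
Split at any factor it is the product of two symplectic spaces.
-/

set_option autoImplicit false
set_option linter.unusedSectionVars false

namespace Cfsg.Lib.Linear.OWreath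

open Cfsg.Geo Cfsg.Lib.Linear.AschGen Cfsg.Lib.Linear.TWreath
open Cfsg.Lib.Linear.SpWreath (Std)
open scoped Matrix MatrixGroups

variable {F : Type*} [Field F] {k t : ℕ}

/-- The bilinear form of the tensor power. -/
def formT (S : Std k F) (t : ℕ) : LinearMap.BilinForm F (Idx k t → F) :=
  LinearMap.mk₂ F (fun x y => ∑ a, S.eT a * x a * y (S.πT a))
    (fun x x' y => by simp only [Pi.add_apply, mul_add, add_mul, Finset.sum_add_distrib])
    (fun c x y => by simp only [Pi.smul_apply, smul_eq_mul, Finset.mul_sum]; exact Finset.sum_congr rfl fun a _ => by ring)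
    (fun x y y' => by simp only [Pi.add_apply, mul_add, Finset.sum_add_distrib])
    (fun c x y => by simp only [Pi.smul_apply, smul_eq_mul, Finset.mul_sum]; exact Finset.sum_congr rfl fun a _ => by ring)

theorem formT_apply (S : Std k F) (x y : Idx k t → F) : formT S t x y = ∑ a, S.eT a * x a * y (S.πT a) := rfl

/-- The bilinear form of one factor. -/
def formW (S : Std k F) : LinearMap.BilinForm F (Fin k → F) :=
  LinearMap.mk₂ F (fun x y => ∑ a, S.e a * x a * y (S.π a))
    (fun x x' y => by simp only [Pi.add_apply, mul_add, add_mul, Finset.sum_add_distrib])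
    (fun c x y => by simp only [Pi.smul_apply, smul_eq_mul, Finset.mul_sum]; exact Finset.sum_congr rfl fun a _ => by ring)
    (fun x y y' => by simp only [Pi.add_apply, mul_add, Finset.sum_add_distrib])
    (fun c x y => by simp only [Pi.smul_apply, smul_eq_mul, Finset.mul_sum]; exact Finset.sum_congr rfl fun a _ => by ring)

theorem formW_apply (S : Std k F) (x y : Fin k → F) : formW S x y = ∑ a, S.e a * x a * y (S.π a) := rfl

theorem formW_eq_dual (S : Std k F) (x y : Fin k → F) : formW S x y = S.dual x ⬝ᵥ y := by
  rw [formW_apply, dotProduct, ← Equiv.sum_comp S.πP]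
  refine Finset.sum_congr rfl fun a _ => ?_
  show S.e (S.π a) * x (S.π a) * y (S.π (S.π a)) = -(S.e a * x (S.π a)) * y a
  rw [S.invol, S.anti]
  ring

variable (S : Std k F)

theorem formT_single_left (a : Idx k t) (y : Idx k t → F) :
    formT S t (Pi.single a 1) y = S.eT a * y (S.πT a) := by
  rw [formT_apply, Finset.sum_eq_single a (fun b _ hb => by rw [Pi.single_eq_of_ne hb, mul_zero, zero_mul])
    (fun h => absurd (Finset.mem_univ _) h), Pi.single_eq_same, mul_one]

theorem formT_single (a b : Idx k t) :
    formT S t (Pi.single a 1) (Pi.single b 1) = if S.πT a = b then S.eT a else 0 := by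
  rw [formT_single_left]
  by_cases h : S.πT a = b
  · rw [if_pos h, h, Pi.single_eq_same, mul_one]
  · rw [if_neg h, Pi.single_eq_of_ne h, mul_zero]

theorem formT_nondeg (t : ℕ) : (formT S t).Nondegenerate := by
  refine ⟨fun x hx => funext fun a => ?_, fun y hy => funext fun a => ?_⟩
  · have h := hx (Pi.single (S.πT a) 1)
    rw [formT_apply, Finset.sum_eq_single a (fun b _ hb => by
      rw [Pi.single_eq_of_ne (fun e => hb (S.πT_inj e)), mul_zero]) (fun h => absurd (Finset.mem_univ _) h),
      Pi.single_eq_same, mul_one] at h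
    exact (mul_eq_zero.1 h).resolve_left (left_ne_zero_of_mul_eq_one (S.eT_sq a))
  · have h := hy (Pi.single (S.πT a) 1)
    rw [formT_single_left, S.πT_πT] at h
    exact (mul_eq_zero.1 h).resolve_left (left_ne_zero_of_mul_eq_one (S.eT_sq _))

theorem formW_nondeg : (formW S).Nondegenerate := by
  refine ⟨fun x hx => ?_, fun y hy => funext fun a => ?_⟩
  · by_contra h
    obtain ⟨z, hz⟩ := S.exists_dual_ne h
    exact hz (by rw [← formW_eq_dual]; exact hx z)
  · have h := hy (Pi.single (S.π a) 1)
    rw [formW_eq_dual, S.dual_single, smul_dotProduct, single_dotProduct, one_mul, S.invol, smul_eq_mul] at h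
    exact (mul_eq_zero.1 h).resolve_left (S.e_ne _)

theorem formW_alt : (formW S).IsAlt := fun x => by rw [formW_eq_dual]; exact S.dual_dot_self x

theorem πT_ne (ht : 0 < t) (a : Idx k t) : S.πT a ≠ a := fun h => S.nofix _ (congrFun h ⟨0, ht⟩)

theorem formT_alt (ht : 0 < t) (hs : (-1 : F) ^ t = -1) : (formT S t).IsAlt := fun x => by
  rw [formT_apply]
  refine Finset.sum_involution (fun a _ => S.πT a) (fun a _ => ?_) (fun a _ _ => πT_ne S ht a)
    (fun a _ => Finset.mem_univ _) fun a _ => S.πT_πT a
  rw [S.πT_πT, S.eT_πT, hs]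
  ring

/-- A representative of each pair of basis vectors. -/
def half (l : Fin t) : Finset (Idx k t) := Finset.univ.filter fun a => a l < S.π (a l)

theorem mem_half_πT (l : Fin t) (a : Idx k t) : S.πT a ∈ half S l ↔ a ∉ half S l := by
  simp only [half, Finset.mem_filter, Finset.mem_univ, true_and, Std.πT, S.invol, not_lt]
  exact ⟨fun h => h.le, fun h => lt_of_le_of_ne h (S.nofix _)⟩

/-- The quadratic form of the tensor power. -/
def quadT (l : Fin t) (x : Idx k t → F) : F := ∑ a ∈ half S l, S.eT a * x a * x (S.πT a)

theorem quadT_smul (l : Fin t) (c : F) (x : Idx k t → F) : quadT S l (c • x) = c ^ 2 * quadT S l x := by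
  simp only [quadT, Finset.mul_sum, Pi.smul_apply, smul_eq_mul]
  exact Finset.sum_congr rfl fun a _ => by ring

theorem quadT_single (l : Fin t) (a : Idx k t) : quadT S l (Pi.single a (1 : F)) = 0 := by
  refine Finset.sum_eq_zero fun b _ => ?_
  rcases eq_or_ne b a with rfl | hb
  · rw [Pi.single_eq_of_ne (πT_ne S (Fin.pos l) b), mul_zero]
  · rw [Pi.single_eq_of_ne hb, mul_zero, zero_mul]

theorem quadT_polar (l : Fin t) (hpar : (-1 : F) ^ t = 1) (x y : Idx k t → F) :
    QuadraticMap.polar (quadT S l) x y = formT S t x y := by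
  classical
  rw [formT_apply, ← Finset.sum_filter_add_sum_filter_not Finset.univ (fun a : Idx k t => a ∈ half S l),
    show (Finset.univ.filter fun a : Idx k t => a ∈ half S l) = half S l by ext a; simp]
  have hrest : ∑ a ∈ Finset.univ.filter (fun a => a ∉ half S l), S.eT a * x a * y (S.πT a) =
      ∑ a ∈ half S l, S.eT a * x (S.πT a) * y a := by
    refine Finset.sum_nbij' S.πT S.πT (fun a ha => ?_) (fun a ha => ?_) (fun a _ => S.πT_πT a)
      (fun a _ => S.πT_πT a) (fun a _ => ?_)
    · exact (mem_half_πT S l a).2 (Finset.mem_filter.1 ha).2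
    · refine Finset.mem_filter.2 ⟨Finset.mem_univ _, fun h => ?_⟩
      exact (mem_half_πT S l a).1 h ha
    · rw [S.πT_πT, S.eT_πT, hpar, one_mul]
  rw [hrest, QuadraticMap.polar, quadT, quadT, quadT, ← Finset.sum_sub_distrib, ← Finset.sum_sub_distrib,
    ← Finset.sum_add_distrib]
  exact Finset.sum_congr rfl fun a _ => by simp only [Pi.add_apply]; ring

theorem space (l : Fin t) (hpar : (-1 : F) ^ t = 1) : Orth.Space (quadT S l) (formT S t) :=
  ⟨quadT_smul S l, quadT_polar S l hpar, fun v hv => (formT_nondeg S t).2 v hv⟩

/-- The pure vectors for the splitting at a factor. -/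
def tens (i : Fin (t + 1)) : (Idx k t → F) →ₗ[F] (Fin k → F) →ₗ[F] (Idx k (t + 1) → F) :=
  LinearMap.mk₂ F (fun a x z => a (i.removeNth z) * x (z i))
    (fun a a' x => by funext z; simp [add_mul])
    (fun c a x => by funext z; simp [mul_assoc])
    (fun a x x' => by funext z; simp [mul_add])
    (fun c a x => by funext z; simp [mul_left_comm])

theorem tens_apply (i : Fin (t + 1)) (a : Idx k t → F) (x : Fin k → F) (z : Idx k (t + 1)) :
    tens i a x z = a (i.removeNth z) * x (z i) := rfl

theorem tens_single (i : Fin (t + 1)) (z : Idx k (t + 1)) :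
    tens (F := F) i (Pi.single (i.removeNth z) 1) (Pi.single (z i) 1) = Pi.single z 1 := by
  funext w
  rw [tens_apply]
  by_cases h : w = z
  · subst h; simp
  · rw [Pi.single_eq_of_ne h]
    by_cases h1 : w i = z i
    · have h2 : i.removeNth w ≠ i.removeNth z := fun e => h (funext fun l => by
        rcases Fin.eq_self_or_eq_succAbove i l with rfl | ⟨j, rfl⟩
        · exact h1
        · exact congrFun e j)
      rw [Pi.single_eq_of_ne h2, zero_mul]
    · rw [Pi.single_eq_of_ne h1, mul_zero]

theorem eT_split (i : Fin (t + 1)) (z : Idx k (t + 1)) : S.eT z = S.e (z i) * S.eT (i.removeNth z) := by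
  simp only [Std.eT, Fin.prod_univ_succAbove _ i]
  rfl

theorem tens_pair (i : Fin (t + 1)) (a : Idx k t → F) (x : Fin k → F) (b : Idx k t → F) (y : Fin k → F) :
    formT S (t + 1) (tens i a x) (tens i b y) = formT S t a b * formW S x y := by
  rw [formT_apply, formT_apply, formW_apply, ← Equiv.sum_comp (Fin.insertNthEquiv (fun _ => Fin k) i),
    Fintype.sum_prod_type, Finset.sum_mul_sum, Finset.sum_comm]
  refine Finset.sum_congr rfl fun c _ => Finset.sum_congr rfl fun p _ => ?_
  show S.eT (Fin.insertNth (α := fun _ => Fin k) i p c) *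
      (a (i.removeNth (Fin.insertNth (α := fun _ => Fin k) i p c)) *
        x (Fin.insertNth (α := fun _ => Fin k) i p c i)) *
    (b (S.πT (i.removeNth (Fin.insertNth (α := fun _ => Fin k) i p c))) *
      y (S.π (Fin.insertNth (α := fun _ => Fin k) i p c i))) = _
  rw [eT_split S i, Fin.removeNth_insertNth, Fin.insertNth_apply_same]
  ring

/-- Split at a factor the tensor power is the product of two symplectic spaces. -/
theorem ten (l : Fin (t + 1)) (ht : 0 < t) (hpar : (-1 : F) ^ (t + 1) = 1) (i : Fin (t + 1)) :
    SpTensor.Ten (quadT S l) (formT S (t + 1)) (formT S t) (formW S) (tens i) where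
  space := space S l hpar
  nα := formT_nondeg S t
  aα := formT_alt S ht (by rw [pow_succ, mul_neg, mul_one, neg_eq_iff_eq_neg] at hpar; exact hpar)
  nω := formW_nondeg S
  aω := formW_alt S
  pair := tens_pair S i
  sing := fun a x => by
    classical
    have C := space S l hpar
    have hadd : ∀ a b, quadT S l (tens i (a + b) x) = quadT S l (tens i a x) + quadT S l (tens i b x) := fun a b => by
      rw [map_add, LinearMap.add_apply, C.add, tens_pair, formW_alt S x, mul_zero, add_zero]
    have hadd' : ∀ c y y', quadT S l (tens i (Pi.single c 1) (y + y')) =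
        quadT S l (tens i (Pi.single c 1) y) + quadT S l (tens i (Pi.single c 1) y') := fun c y y' => by
      rw [map_add, C.add, tens_pair, formT_single, if_neg (πT_ne S ht c), zero_mul, add_zero]
    rw [pi_eq_sum_univ' a]
    refine Finset.sum_induction _ (fun a => quadT S l (tens i a x) = 0) (fun a b ha hb => by rw [hadd, ha, hb, add_zero])
      (by simp [C.zero]) fun c _ => ?_
    rw [map_smul, LinearMap.smul_apply, C.smul]
    refine mul_eq_zero_of_right _ ?_
    rw [pi_eq_sum_univ' x]
    refine Finset.sum_induction _ (fun x => quadT S l (tens i (Pi.single c 1) x) = 0)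
      (fun y y' hy hy' => by rw [hadd', hy, hy', add_zero]) (by simp [C.zero]) fun p _ => ?_
    rw [map_smul, C.smul]
    refine mul_eq_zero_of_right _ ?_
    have e := tens_single (F := F) i (i.insertNth p c : Idx k (t + 1))
    rw [Fin.removeNth_insertNth, Fin.insertNth_apply_same] at e
    rw [e, quadT_single]
  span := by
    classical
    refine eq_top_iff.2 fun v _ => ?_
    rw [pi_eq_sum_univ' v]
    refine Submodule.sum_mem _ fun z _ => Submodule.smul_mem _ _ (Submodule.subset_span ⟨(_, _), tens_single i z⟩)

end Cfsg.Lib.Linear.OWreath
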