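import Cfsg.Agent.Lib.Linear.OWreath.Rich
import Cfsg.Agent.Lib.Linear.OWreath.Bridge
import Cfsg.Agent.Lib.Linear.OrthMax

/-!
# The elements `proj` generate `Ω`

Each of them is a Siegel element of two basis vectors differing at one factor; conjugation by the
other Siegel elements reaches all pairs of orthogonal basis vectors, hence the full centres.
-/

set_option autoImplicit false
set_option linter.unusedSectionVars false

namespace Cfsg.Lib.Linear.OWreath

open Cfsg.Geo Cfsg.Lib.Linear.AschGen Cfsg.Lib.Linear.TWreath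
open Cfsg.Lib.Linear.SpWreath (Std)
open Cfsg.Lib.Linear.Orth (sGL sGL_act sGL_mul sGL_conj sGL_add_self Centre omega_le_of_two)
open Cfsg.Lib.Linear.SpTensor (sGL_zero_right sGL_inv')
open scoped Matrix MatrixGroups

variable {F : Type*} [Field F] {k t : ℕ} {S : Std k F} {G : Subgroup (GL (Idx k t) F)} {l : Fin t}

/-- The Siegel element at a basis vector lies in the group. -/
def InS (S : Std k F) (G : Subgroup (GL (Idx k t) F)) (l : Fin t) (u : Idx k t) (w : Idx k t → F) : Prop :=
  formT S t (Pi.single u 1) w = 0 ∧ sGL (quadT S l) (formT S t) (Pi.single u 1) w ∈ G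

/-- All multiples of one basis vector. -/
def Rel (S : Std k F) (G : Subgroup (GL (Idx k t) F)) (l : Fin t) (u b : Idx k t) : Prop :=
  ∀ c : F, InS S G l u (c • Pi.single b 1)

section

variable (hpar : (-1 : F) ^ t = 1)

include hpar

theorem single_sGL {u b : Idx k t} (hub : b ≠ S.πT u) (c : F) :
    (sGL (quadT S l) (formT S t) (Pi.single u 1) (c • Pi.single b 1)).val =
      1 + c • (S.eT u • (Matrix.single b (S.πT u) (1 : F)) - S.eT b • Matrix.single u (S.πT b) 1) := by
  have C := space S l hpar
  refine Orth.mat_ext fun x => ?_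
  rw [sGL_act C (quadT_single S l u) (by rw [map_smul, formT_single, if_neg (Ne.symm hub), smul_zero]),
    C.smul, quadT_single, map_smul, LinearMap.smul_apply, formT_single_left, formT_single_left,
    Matrix.add_mulVec, Matrix.one_mulVec, Matrix.smul_mulVec, Matrix.sub_mulVec, Matrix.smul_mulVec,
    Matrix.smul_mulVec, Matrix.single_eq_single_vecMulVec_single, Matrix.single_eq_single_vecMulVec_single,
    Matrix.vecMulVec_mulVec, Matrix.vecMulVec_mulVec, single_dotProduct, single_dotProduct, one_mul, one_mul,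
    op_smul_eq_smul, op_smul_eq_smul, mul_zero, zero_mul, add_zero]
  simp only [smul_eq_mul]
  module

theorem InS.add {u : Idx k t} {v w : Idx k t → F} (h : InS S G l u v) (h' : InS S G l u w) :
    InS S G l u (v + w) := by
  refine ⟨by rw [map_add, h.1, h'.1, add_zero], ?_⟩
  rw [← sGL_mul (space S l hpar) (quadT_single S l u) h.1 h'.1]
  exact mul_mem h.2 h'.2

theorem InS.zero (u : Idx k t) : InS S G l u 0 := by
  refine ⟨map_zero _, ?_⟩
  rw [sGL_zero_right (space S l hpar) (quadT_single S l u)]
  exact one_mem _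

theorem InS.neg {u : Idx k t} {v : Idx k t → F} (h : InS S G l u v) : InS S G l u (-v) := by
  refine ⟨by rw [map_neg, h.1, neg_zero], ?_⟩
  rw [← sGL_inv' (space S l hpar) (quadT_single S l u) h.1]
  exact inv_mem h.2

theorem InS.sub {u : Idx k t} {v w : Idx k t → F} (h : InS S G l u v) (h' : InS S G l u w) :
    InS S G l u (v - w) := sub_eq_add_neg v w ▸ InS.add hpar h (InS.neg hpar h')

variable (hle : G ≤ isometryGroup F (quadT S l))

include hle

theorem InS.conj {u u' : Idx k t} {w : Idx k t → F} (h : InS S G l u w) {g : GL (Idx k t) F} (hg : g ∈ G)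
    (hu : g.val *ᵥ Pi.single u 1 = Pi.single u' 1) : InS S G l u' (g.val *ᵥ w) := by
  have C := space S l hpar
  refine ⟨by rw [← hu, C.B_act (hle hg), h.1], ?_⟩
  have h1 := mul_mem (mul_mem hg h.2) (inv_mem hg)
  rwa [sGL_conj C (quadT_single S l u) h.1 (hle hg), hu] at h1

/-- Composition of two pairs. -/
theorem Rel.comp {u a b : Idx k t} (h1 : Rel S G l u a) (h2 : Rel S G l (S.πT a) b) (hau : a ≠ u)
    (hbu : b ≠ S.πT u) (hba' : b ≠ S.πT a) : Rel S G l u b := by
  have C := space S l hpar
  intro c
  set g := sGL (quadT S l) (formT S t) (Pi.single (S.πT a) 1) ((c * S.eT (S.πT a)) • Pi.single b 1) with hg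
  have hgG : g ∈ G := (h2 _).2
  have hact := fun x => sGL_act C (quadT_single S l (S.πT a)) (h2 (c * S.eT (S.πT a))).1 x
  simp only [C.smul, quadT_single, mul_zero, zero_mul, add_zero] at hact
  have e1 : g.val *ᵥ Pi.single u 1 = Pi.single u 1 := by
    rw [hg, hact, map_smul, LinearMap.smul_apply, formT_single, formT_single, S.πT_πT, if_neg hau,
      if_neg (fun e => hbu (by rw [← e, S.πT_πT]))]
    simp
  have e2 : g.val *ᵥ Pi.single a 1 = Pi.single a 1 + c • Pi.single b 1 := by
    rw [hg, hact, map_smul, LinearMap.smul_apply, formT_single, formT_single, S.πT_πT, if_pos rfl,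
      if_neg (fun e => hba' (by rw [← e, S.πT_πT])), smul_smul,
      show S.eT (S.πT a) * (c * S.eT (S.πT a)) = c * (S.eT (S.πT a) * S.eT (S.πT a)) by ring, S.eT_sq, mul_one]
    simp
  have h3 := InS.conj hpar hle (h1 1) hgG e1
  rw [one_smul, e2] at h3
  have h4 := InS.sub hpar h3 (h1 1)
  rwa [one_smul, add_sub_cancel_left] at h4

end

theorem exists_shift {a v : Fin k} (h1 : v ≠ a) (h2 : v ≠ S.π a) : ∃ x : GL (Fin k) F, S.Iso x ∧
    x.val *ᵥ Pi.single a 1 = Pi.single a 1 ∧
    x.val *ᵥ Pi.single (S.π a) 1 = Pi.single (S.π a) 1 + Pi.single v 1 := by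
  set s := S.e v * S.e (S.π a)
  set X : Matrix (Fin k) (Fin k) F := sg v (S.π a) - s • sg a (S.π v) with hX
  have n1 : S.π a ≠ S.π v := fun e => h1 (S.π_inj e).symm
  have n2 : S.π v ≠ a := fun e => h2 (by rw [← e, S.invol])
  have z : ∀ p q p' q' : Fin k, q ≠ p' → (sg p q * sg p' q' : Matrix (Fin k) (Fin k) F) = 0 :=
    fun p q p' q' h => sg_mul_ne p q' h
  have hXX : X * X = 0 := by
    simp only [hX, sub_mul, mul_sub, smul_mul_assoc, mul_smul_comm, z _ _ _ _ h2.symm, z _ _ _ _ (S.nofix a),
      z _ _ _ _ (S.nofix v), z _ _ _ _ n2, smul_zero, sub_zero]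
  have hsk : S.ad X = -X := by
    rw [hX, S.ad_sub, S.ad_smul, S.ad_sg, S.ad_sg, S.invol, S.invol, smul_smul,
      show S.e v * S.e (S.π a) * (S.e a * S.e (S.π v)) = S.e v * S.e v * (S.e a * S.e a) by
        rw [S.anti, S.anti]; ring, S.sign, S.sign, one_mul, one_smul]
    abel
  refine ⟨⟨1 + X, 1 - X, by rw [show (1 + X) * (1 - X) = 1 - X * X by noncomm_ring, hXX, sub_zero],
    by rw [show (1 - X) * (1 + X) = 1 - X * X by noncomm_ring, hXX, sub_zero]⟩, ?_, ?_, ?_⟩
  · show S.ad (1 + X) * (1 + X) = 1
    rw [S.ad_add, S.ad_one, hsk, ← sub_eq_add_neg, show (1 - X) * (1 + X) = 1 - X * X by noncomm_ring, hXX, sub_zero]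
  · show (1 + X) *ᵥ Pi.single a 1 = _
    rw [Matrix.add_mulVec, Matrix.one_mulVec]
    funext z
    simp [hX, Matrix.mulVec_single_one, Matrix.sub_apply, Matrix.single_apply, S.nofix a, n2]
  · show (1 + X) *ᵥ Pi.single (S.π a) 1 = _
    rw [Matrix.add_mulVec, Matrix.one_mulVec]
    congr 1
    funext z
    simp [hX, Matrix.mulVec_single_one, Matrix.sub_apply, Matrix.single_apply, Pi.single_apply, n1.symm, eq_comm]

theorem fu_single (i : Fin t) (x : GL (Fin k) F) (u : Idx k t) {s : Finset (Fin k)} {r : Fin k → F}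
    (hx : x.val *ᵥ Pi.single (u i) 1 = ∑ a ∈ s, r a • Pi.single a 1) :
    (fu i x).val *ᵥ Pi.single u 1 = ∑ a ∈ s, r a • Pi.single (Function.update u i a) 1 := by
  classical
  funext z
  rw [fu_val, SpWreath.Std.fa_col, Finset.sum_apply]
  have hz := congrFun hx (z i)
  rw [Matrix.mulVec_single_one, Finset.sum_apply] at hz
  by_cases h : ∀ j, j ≠ i → z j = u j
  · rw [if_pos h]
    refine hz.trans (Finset.sum_congr rfl fun a _ => ?_)
    have e : (z = Function.update u i a) ↔ z i = a :=
      ⟨fun e => by rw [e, Function.update_self], fun e => funext fun j => by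
        rcases eq_or_ne j i with rfl | hj
        · rw [Function.update_self, e]
        · rw [Function.update_of_ne hj, h j hj]⟩
    simp only [Pi.smul_apply, Pi.single_apply, e]
  · rw [if_neg h]
    refine (Finset.sum_eq_zero fun a _ => ?_).symm
    have : z ≠ Function.update u i a := fun e => h fun j hj => by rw [e, Function.update_of_ne hj]
    simp [this]

theorem proj_eq (p : Fin t) (x : Idx k t) :
    S.proj p x = Matrix.single x (S.πT (Function.update x p (S.π (x p)))) (1 : F) +
      Matrix.single (Function.update x p (S.π (x p))) (S.πT x) 1 := by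
  classical
  ext r c
  have hent : ∀ (a b : Idx k t) (M : Fin t → Matrix (Fin k) (Fin k) F), (∀ j, M j = sg (a j) (b j)) →
      pureTens M r c = Matrix.single a b (1 : F) r c := by
    intro a b M hM
    rw [Matrix.single_apply]
    by_cases h : a = r ∧ b = c
    · obtain ⟨rfl, rfl⟩ := h
      simp [pureTens, hM]
    · rw [if_neg h]
      obtain ⟨j, hj⟩ : ∃ j, ¬ (a j = r j ∧ b j = c j) := by
        by_contra hc
        push Not at hc
        exact h ⟨funext fun j => (hc j).1, funext fun j => (hc j).2⟩
      exact Finset.prod_eq_zero (Finset.mem_univ j) (by rw [hM]; exact (Matrix.single_apply ..).trans (if_neg hj))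
  set M : Fin t → Matrix (Fin k) (Fin k) F := fun j => sg (x j) (S.π (x j)) with hM
  have e : S.proj p x = pureTens (Function.update M p (S.pairP (x p))) := by
    rw [Std.proj]
    congr 1
    funext j
    rcases eq_or_ne j p with rfl | hj
    · simp
    · simp [hj, hM]
  rw [e, Std.pairP, Std.pureTens_update, map_add, add_mul, Matrix.add_apply, Matrix.add_apply,
    ← Std.pureTens_update, ← Std.pureTens_update]
  congr 1
  · refine hent _ _ _ fun j => ?_
    rcases eq_or_ne j p with rfl | hj
    · simp [Std.πT, S.invol]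
    · simp [hj, hM, Std.πT]
  · refine hent _ _ _ fun j => ?_
    rcases eq_or_ne j p with rfl | hj
    · simp [Std.πT]
    · simp [hj, hM, Std.πT]

theorem eT_update (p : Fin t) (x : Idx k t) : S.eT (Function.update x p (S.π (x p))) = -S.eT x := by
  classical
  rw [Std.eT, Std.eT, ← Finset.mul_prod_erase Finset.univ _ (Finset.mem_univ p),
    ← Finset.mul_prod_erase Finset.univ (fun j => S.e (x j)) (Finset.mem_univ p), Function.update_self, S.anti,
    Finset.prod_congr rfl fun j hj => by rw [Function.update_of_ne (Finset.ne_of_mem_erase hj)]]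
  ring

theorem exists_other (ht2 : 2 ≤ t) (p : Fin t) : ∃ j : Fin t, j ≠ p := by
  by_cases h : (⟨0, by omega⟩ : Fin t) = p
  · exact ⟨⟨1, by omega⟩, by rw [← h]; simp⟩
  · exact ⟨_, h⟩

section

variable (hpar : (-1 : F) ^ t = 1) (hle : G ≤ isometryGroup F (quadT S l))

include hpar hle

/-- The pairs given by `proj`. -/
theorem rel_proj (hG : S.SOver G) (h2 : (2 : F) ≠ 0) (hk : 2 ≤ k) (ht : Even t) (ht2 : 2 ≤ t)
    (hkt : k = 2 → 3 ≤ t) (hR : ¬ S.NR G) (p : Fin t) (x : Idx k t) :
    Rel S G l x (Function.update x p (S.π (x p))) := by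
  intro c
  set y := Function.update x p (S.π (x p)) with hy
  have hyx : y ≠ S.πT x := fun e => by
    obtain ⟨j, hj⟩ := exists_other ht2 p
    have := congrFun e j
    rw [hy, Function.update_of_ne hj] at this
    exact S.nofix (x j) this.symm
  refine ⟨by rw [map_smul, formT_single, if_neg hyx.symm, smul_zero], ?_⟩
  obtain ⟨⟨g, hg, hgv⟩, -⟩ := Std.proj_mem hG h2 hk ht ht2 hkt hR p x (c * S.eT x)
  have e : sGL (quadT S l) (formT S t) (Pi.single x 1) (c • Pi.single y 1) = g := by
    refine Units.ext ?_
    rw [single_sGL hpar hyx, hgv, proj_eq, hy, eT_update, ← hy]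
    match_scalars <;> ring
  exact e ▸ hg

/-- Pairs differing at one factor. -/
theorem rel_near (hG : S.SOver G) (h2 : (2 : F) ≠ 0) (hk : 2 ≤ k) (ht : Even t) (ht2 : 2 ≤ t)
    (hkt : k = 2 → 3 ≤ t) (hR : ¬ S.NR G) (u : Idx k t) (p : Fin t) (v : Fin k) (hv : v ≠ u p) :
    Rel S G l u (Function.update u p v) := by
  classical
  rcases eq_or_ne v (S.π (u p)) with rfl | hv'
  · exact rel_proj hpar hle hG h2 hk ht ht2 hkt hR p u
  obtain ⟨x, hx, hx1, hx2⟩ := exists_shift (S := S) hv hv'
  intro c
  have h0 := rel_proj hpar hle hG h2 hk ht ht2 hkt hR p u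
  have e1 : (fu p x).val *ᵥ Pi.single u 1 = (Pi.single u 1 : Idx k t → F) := by
    rw [fu_single p x u (s := {u p}) (r := fun _ => 1) (by simpa using hx1)]
    simp
  have e2 : (fu p x).val *ᵥ Pi.single (Function.update u p (S.π (u p))) 1 =
      (Pi.single (Function.update u p (S.π (u p))) 1 + Pi.single (Function.update u p v) 1 : Idx k t → F) := by
    rw [fu_single p x _ (s := {S.π (u p), v}) (r := fun _ => 1) (by
      simpa [Finset.sum_pair hv'.symm] using hx2)]
    simp [Finset.sum_pair hv'.symm]
  have h3 := InS.conj hpar hle (h0 c) (hG.sp p x hx) e1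
  rw [Matrix.mulVec_smul, e2, smul_add] at h3
  have h4 := InS.sub hpar h3 (h0 c)
  rwa [add_sub_cancel_left] at h4

/-- All pairs of orthogonal basis vectors. -/
theorem rel_all (hG : S.SOver G) (h2 : (2 : F) ≠ 0) (hk : 2 ≤ k) (ht : Even t) (ht2 : 2 ≤ t)
    (hkt : k = 2 → 3 ≤ t) (hR : ¬ S.NR G) (u b : Idx k t) (hbu : b ≠ u) (hbu' : b ≠ S.πT u) :
    Rel S G l u b := by
  classical
  have near := rel_near hpar hle hG h2 hk ht ht2 hkt hR
  let D : Idx k t → Idx k t → Finset (Fin t) := fun u b => Finset.univ.filter fun j => b j ≠ u j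
  let P : Idx k t → Idx k t → Finset (Fin t) := fun u b => Finset.univ.filter fun j => b j ≠ S.π (u j)
  have hupd : ∀ (b : Idx k t) (j : Fin t) (w : Fin k), S.πT (Function.update (S.πT b) j w) = Function.update b j (S.π w) := by
    intro b j w
    funext i
    rcases eq_or_ne i j with rfl | hi
    · simp [Std.πT]
    · simp [Std.πT, hi, S.invol]
  have hself : ∀ (b : Idx k t) (j : Fin t) (w : Fin k), Function.update (Function.update b j w) j (b j) = b :=
    fun b j w => by rw [Function.update_idem, Function.update_eq_self]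
  -- the step through a neighbour of the target
  have step : ∀ (u b : Idx k t) (j : Fin t) (w : Fin k), b j ≠ S.π w → Function.update (S.πT b) j w ≠ u →
      b ≠ S.πT u → Rel S G l u (Function.update (S.πT b) j w) → Rel S G l u b := by
    intro u b j w hw hau hbu' h1
    refine Rel.comp hpar hle h1 ?_ hau hbu' ?_
    · rw [hupd]
      have := near (Function.update b j (S.π w)) j (b j) (by rwa [Function.update_self])
      rwa [hself] at this
    · rw [hupd]
      exact fun e => hw (by have := congrFun e j; rwa [Function.update_self] at this)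
  have main : ∀ (n : ℕ) (u b : Idx k t), b ≠ u → b ≠ S.πT u →
      (Odd n ∧ (D u b).card = n) ∨ (Even n ∧ (P u b).card = n) → Rel S G l u b := by
    intro n
    induction n using Nat.strong_induction_on with
    | _ n ih =>
    intro u b hbu hbu' hn
    rcases hn with ⟨ho, hn⟩ | ⟨he, hn⟩
    · obtain ⟨j, hj⟩ := Function.ne_iff.1 hbu
      by_cases h1 : n = 1
      · obtain ⟨j', hj'⟩ := Finset.card_eq_one.1 (hn.trans h1)
        have hjj : ∀ i, i ≠ j → b i = u i := fun i hi => by
          by_contra hc
          have m1 : i ∈ D u b := Finset.mem_filter.2 ⟨Finset.mem_univ _, hc⟩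
          have m2 : j ∈ D u b := Finset.mem_filter.2 ⟨Finset.mem_univ _, hj⟩
          rw [hj', Finset.mem_singleton] at m1 m2
          exact hi (m1.trans m2.symm)
        have e : b = Function.update u j (b j) := funext fun i => by
          rcases eq_or_ne i j with rfl | hi
          · simp
          · rw [Function.update_of_ne hi, hjj i hi]
        rw [e]
        exact near u j (b j) hj
      set a := Function.update (S.πT b) j (S.π (u j)) with ha
      have hP : P u a = (D u b).erase j := by
        ext i
        simp only [P, D, Finset.mem_filter, Finset.mem_univ, true_and, Finset.mem_erase]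
        rcases eq_or_ne i j with rfl | hi
        · simp [ha]
        · simp [ha, hi, Std.πT, S.π_inj.ne_iff]
      have hc : (P u a).card = n - 1 := by
        rw [hP, Finset.card_erase_of_mem (show j ∈ D u b from Finset.mem_filter.2 ⟨Finset.mem_univ _, hj⟩), hn]
      have hau : a ≠ u := fun e => S.nofix (u j) (by simpa [ha] using congrFun e j)
      have hau' : a ≠ S.πT u := fun e => by
        have : (P u a).card = 0 := by
          rw [Finset.card_eq_zero]
          exact Finset.filter_eq_empty_iff.2 fun i _ => by rw [e]; simp [Std.πT]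
        obtain ⟨r, hr⟩ := ho
        omega
      exact step u b j _ (by rwa [S.invol]) hau hbu'
        (ih (n - 1) (by obtain ⟨r, hr⟩ := ho; omega) u a hau hau'
          (Or.inr ⟨by obtain ⟨r, hr⟩ := ho; exact ⟨r, by omega⟩, hc⟩))
    · obtain ⟨j, hj⟩ := Function.ne_iff.1 hbu'
      set a := Function.update (S.πT b) j (u j) with ha
      have hD : D u a = (P u b).erase j := by
        ext i
        simp only [P, D, Finset.mem_filter, Finset.mem_univ, true_and, Finset.mem_erase]
        rcases eq_or_ne i j with rfl | hi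
        · simp [ha]
        · simp only [ha, Function.update_of_ne hi, Std.πT, hi, not_false_eq_true, true_and, ne_eq]
          rw [not_iff_not]
          exact ⟨fun e => by rw [← e, S.invol], fun e => by rw [e, S.invol]⟩
      have hpos : 0 < (P u b).card := Finset.card_pos.2 ⟨j, Finset.mem_filter.2 ⟨Finset.mem_univ _, hj⟩⟩
      have hc : (D u a).card = n - 1 := by
        rw [hD, Finset.card_erase_of_mem (show j ∈ P u b from Finset.mem_filter.2 ⟨Finset.mem_univ _, hj⟩), hn]
      have hau : a ≠ u := fun e => by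
        have : (D u a).card = 0 := by
          rw [Finset.card_eq_zero]
          exact Finset.filter_eq_empty_iff.2 fun i _ => by rw [e]; simp
        obtain ⟨r, hr⟩ := he
        omega
      have hau' : a ≠ S.πT u := fun e => S.nofix (u j) (by simpa [ha, Std.πT] using (congrFun e j).symm)
      exact step u b j _ hj hau hbu'
        (ih (n - 1) (by omega) u a hau hau'
          (Or.inl ⟨by obtain ⟨r, hr⟩ := he; exact ⟨r - 1, by omega⟩, hc⟩))
  rcases Nat.even_or_odd (P u b).card with hPe | hPo
  · exact main _ u b hbu hbu' (Or.inr ⟨hPe, rfl⟩)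
  rcases Nat.even_or_odd (D u b).card with hDe | hDo
  swap
  · exact main _ u b hbu hbu' (Or.inl ⟨hDo, rfl⟩)
  obtain ⟨j, hj1, hj2⟩ : ∃ j, b j ≠ u j ∧ b j ≠ S.π (u j) := by
    by_contra hc
    push Not at hc
    have hP : P u b = (D u b)ᶜ := by
      ext i
      simp only [P, D, Finset.mem_filter, Finset.mem_univ, true_and, Finset.mem_compl, ne_eq, not_not]
      refine ⟨fun h => by_contra fun h' => h (hc i h'), fun h h' => S.nofix (u i) (by rw [← h', h])⟩
    have hle' : (D u b).card ≤ t := by simpa using (D u b).card_le_univ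
    have := Finset.card_compl (D u b)
    rw [← hP, Fintype.card_fin] at this
    obtain ⟨r1, h1⟩ := hDe
    obtain ⟨r2, h2'⟩ := hPo
    obtain ⟨r3, h3⟩ := ht
    omega
  by_cases hall : ∀ i, i ≠ j → b i = S.π (u i)
  · have e : Function.update (S.πT b) j (S.π (u j)) = Function.update u j (S.π (u j)) := funext fun i => by
      rcases eq_or_ne i j with rfl | hi
      · simp
      · rw [Function.update_of_ne hi, Function.update_of_ne hi, Std.πT, hall i hi, S.invol]
    refine step u b j (S.π (u j)) (by rwa [S.invol]) (fun e' => S.nofix (u j) (by simpa using congrFun e' j)) hbu' ?_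
    rw [e]
    exact near u j _ (S.nofix _)
  push Not at hall
  obtain ⟨i, hij, hi⟩ := hall
  set a := Function.update (S.πT b) j (u j) with ha
  have hP : P u a = D u b := by
    ext z
    simp only [P, D, Finset.mem_filter, Finset.mem_univ, true_and]
    rcases eq_or_ne z j with rfl | hz
    · simp [ha, hj1, (S.nofix (u z)).symm]
    · simp [ha, hz, Std.πT, S.π_inj.ne_iff]
  have hau : a ≠ u := fun e => hi (by
    have := congrFun e i
    simp only [ha, Function.update_of_ne hij, Std.πT] at this
    rw [← this, S.invol])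
  refine step u b j (u j) hj2 hau hbu' (main _ u a hau (fun e => S.nofix (u j) ?_) (Or.inr ⟨hP ▸ hDe, rfl⟩))
  simpa [ha, Std.πT] using (congrFun e j).symm

/-- The group contains `Ω` as soon as a coefficient is not scalar. -/
theorem omega_le_of_rich [Finite F] (hG : S.SOver G) (h2 : (2 : F) ≠ 0) (hk : 2 ≤ k) (ht : Even t) (ht2 : 2 ≤ t)
    (hkt : k = 2 → 3 ≤ t) (hR : ¬ S.NR G) (h5 : 5 ≤ Fintype.card (Idx k t)) :
    Cfsg.Geo.omegaGL (quadT S l) ≤ G := by
  classical
  have C := space S l hpar
  have cen : ∀ u : Idx k t, Centre (quadT S l) (formT S t) G (Pi.single u 1) := by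
    intro u a ha
    suffices h : InS S G l u a from h.2
    rw [pi_eq_sum_univ' a]
    refine Finset.sum_induction _ (InS S G l u) (fun v w => InS.add hpar) (InS.zero hpar u) fun b _ => ?_
    rcases eq_or_ne b u with rfl | hb
    · refine ⟨by rw [map_smul, C.self_zero (quadT_single S l b), smul_zero], ?_⟩
      rw [← zero_add (a b • (Pi.single b 1 : Idx k t → F)),
        sGL_add_self C (quadT_single S l b) (map_zero _), sGL_zero_right C (quadT_single S l b)]
      exact one_mem _
    rcases eq_or_ne b (S.πT u) with rfl | hb'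
    · rw [formT_single_left] at ha
      rw [(mul_eq_zero.1 ha).resolve_left (left_ne_zero_of_mul_eq_one (S.eT_sq u)), zero_smul]
      exact InS.zero hpar u
    exact rel_all hpar hle hG h2 hk ht ht2 hkt hR u b hb hb' (a b)
  obtain ⟨u⟩ : Nonempty (Idx k t) := Fintype.card_pos_iff.1 (by omega)
  refine omega_le_of_two C h5 hle (quadT_single S l u) (quadT_single S l (S.πT u)) ?_ (cen u) (cen _)
  rw [formT_single, if_pos rfl]
  exact left_ne_zero_of_mul_eq_one (S.eT_sq u)

end

end Cfsg.Lib.Linear.OWreath
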