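import Cfsg.Agent.Lib.Linear.SpWreath.Rich

/-!
# An even number of factors: a coefficient which is not a scalar gives root elements

The products of long pieces at all factors but one, completed at the last factor by the idempotent of
a pair, are long root elements of the orthogonal group of the tensor power.
-/

set_option autoImplicit false
set_option linter.unusedSectionVars false

namespace Cfsg.Lib.Linear.SpWreath.Std

open Cfsg.Geo Cfsg.Lib.Linear.AschGen Cfsg.Lib.Linear.TWreath
open scoped Matrix MatrixGroups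

variable {F : Type*} [Field F] {k t : ℕ} {S : Std k F} {G : Subgroup (GL (Idx k t) F)}

variable (S) in
/-- The idempotent of a pair. -/
def pairP (a : Fin k) : Matrix (Fin k) (Fin k) F := sg a a + sg (S.π a) (S.π a)

theorem diagonal_pair (a : Fin k) (s : F) :
    Matrix.diagonal (Pi.single a s) + Matrix.diagonal (Pi.single (S.π a) s) = s • S.pairP a := by
  rw [pairP, smul_add, Matrix.diagonal_single, Matrix.diagonal_single, Matrix.smul_single, Matrix.smul_single,
    smul_eq_mul, mul_one]

theorem sum_pairP : ∑ a, S.pairP a = (2 : F) • 1 := by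
  simp only [pairP, Finset.sum_add_distrib]
  rw [show ∑ a, (sg (S.π a) (S.π a) : Matrix (Fin k) (Fin k) F) = ∑ a, sg a a from
    Equiv.sum_comp S.πP (fun a => (sg a a : Matrix (Fin k) (Fin k) F)), sum_sg, two_smul]

theorem pairP_eq_one {a : Fin k} (h : ∀ b, b = a ∨ b = S.π a) : S.pairP a = 1 := by
  ext x y
  rcases h x with rfl | rfl <;> rcases h y with rfl | rfl <;>
    simp [pairP, Matrix.single_apply, S.nofix, (S.nofix _).symm, Matrix.one_apply]

theorem exists_pairP_move (a a' : Fin k) : ∃ x : GL (Fin k) F, S.Iso x ∧ conjA x (S.pairP a) = S.pairP a' := by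
  by_cases hb : ∀ b, b = a ∨ b = S.π a
  · refine ⟨1, Iso.one S, ?_⟩
    rw [conjA_one, pairP_eq_one hb, pairP_eq_one]
    intro b
    rcases hb a' with rfl | rfl
    · exact hb b
    · rw [S.invol]; exact (hb b).symm
  push Not at hb
  obtain ⟨b, hb1, hb2⟩ := hb
  have hka : ∀ a' : Fin k, ∃ b', b' ≠ a' ∧ b' ≠ S.π a' := fun a' => by
    rcases eq_or_ne a a' with rfl | ha
    · exact ⟨b, hb1, hb2⟩
    rcases eq_or_ne a (S.π a') with rfl | ha'
    · exact ⟨b, fun e => hb2 (by rw [e, S.invol]), hb1⟩
    exact ⟨a, ha, ha'⟩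
  obtain ⟨b', hb1', hb2'⟩ := hka a'
  obtain ⟨ρ, hρ, rfl, -⟩ := S.exists_rho hb1 hb2 hb1' hb2'
  refine ⟨S.mon ρ hρ, S.iso_mon ρ hρ, ?_⟩
  rw [pairP, map_add, S.conjA_mon, S.conjA_mon, S.dsg_sq, S.dsg_sq, one_smul, one_smul, hρ, pairP]

theorem exists_long_move (a a' : Fin k) : ∃ (x : GL (Fin k) F) (s : F), S.Iso x ∧ s ≠ 0 ∧
    conjA x (sg a (S.π a)) = s • (sg a' (S.π a') : Matrix (Fin k) (Fin k) F) := by
  obtain ⟨x, hx, hxv⟩ := S.exists_move (v := Pi.single a 1) (w := Pi.single a' 1) (by simp) (by simp)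
  have h1 := S.conjA_nr hx (Pi.single a 1)
  rw [hxv, S.nr_single, S.nr_single, map_smul] at h1
  refine ⟨x, S.e a * S.e a', hx, mul_ne_zero (S.e_ne _) (S.e_ne _), ?_⟩
  have h3 := congrArg (S.e a • ·) h1
  simpa only [smul_smul, S.sign, one_smul] using h3

/-- An opposite of a long piece. -/
theorem long_opp (a : Fin k) : ∃ (x : GL (Fin k) F) (s : F), S.Iso x ∧ s ≠ 0 ∧
    sg a (S.π a) * conjA x (sg a (S.π a)) = Matrix.diagonal (Pi.single a s) ∧
    conjA x (sg a (S.π a)) * sg a (S.π a) = Matrix.diagonal (Pi.single (S.π a) s) := by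
  obtain ⟨x, s, hx, hs, hxs⟩ := exists_long_move (S := S) a (S.π a)
  rw [S.invol] at hxs
  refine ⟨x, s, hx, hs, ?_, ?_⟩
  · rw [hxs, mul_smul_comm, sg_mul, Matrix.diagonal_single, Matrix.smul_single, smul_eq_mul, mul_one]
  · rw [hxs, smul_mul_assoc, sg_mul, Matrix.diagonal_single, Matrix.smul_single, smul_eq_mul, mul_one]

variable {W : Submodule F (Matrix (Idx k t) (Idx k t) F)}

/-- The commutators with roots, some factors being left out. -/
theorem ops_gen (h2 : (2 : F) ≠ 0) (R : Finset (Fin t)) (p : Fin t → Fin k) (d : Fin t → Fin k → F) :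
    ∀ (Z Z' : Fin t → Matrix (Fin k) (Fin k) F) (s : F), (∀ l ∈ R, S.Inv l W) →
    (∀ l ∈ R, Z l = Matrix.diagonal (d l)) → (∀ l ∈ R, Z' l = Matrix.diagonal (fun a => d l (S.π a))) →
    pureTens Z + s • pureTens Z' ∈ W →
    (∏ l ∈ R, (d l (S.π (p l)) - d l (p l))) •
      (pureTens (fun l => if l ∈ R then sg (p l) (S.π (p l)) else Z l) +
        (s * (-1) ^ R.card) • pureTens (fun l => if l ∈ R then sg (p l) (S.π (p l)) else Z' l)) ∈ W := by
  classical
  induction R using Finset.induction_on with
  | empty =>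
    intro Z Z' s _ _ _ h
    simpa using h
  | insert l R hl ih =>
    intro Z Z' s hinv hZ hZ' h
    set E : Matrix (Fin k) (Fin k) F := sg (p l) (S.π (p l)) with hE
    set δ := d l (S.π (p l)) - d l (p l) with hδ
    rw [Finset.prod_insert hl, Finset.card_insert_of_notMem hl, pow_succ, ← hδ]
    rcases eq_or_ne δ 0 with h0 | h0
    · rw [h0, zero_mul, zero_smul]; exact W.zero_mem
    have h1 : fa l E * (pureTens Z + s • pureTens Z') - (pureTens Z + s • pureTens Z') * fa l E ∈ W := by
      have h3 := W.smul_mem (S.e (p l)) ((hinv l (Finset.mem_insert_self l R)).sq_ops h2 (Pi.single (p l) 1) h).2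
      rwa [S.nr_single, map_smul, smul_mul_assoc, mul_smul_comm, ← smul_sub, smul_smul, S.sign, one_smul] at h3
    have hop : ∀ (Y : Fin t → Matrix (Fin k) (Fin k) F) (v : Fin k → F), Y l = Matrix.diagonal v →
        fa l E * pureTens Y - pureTens Y * fa l E =
          (v (S.π (p l)) - v (p l)) • pureTens (Function.update Y l E) * (-1) ^ 0 := by
      intro Y v hY
      rw [pow_zero, mul_one, (fa_mul_pureTens Y l E).1, (fa_mul_pureTens Y l E).2, hY, hE,
        (diagonal_mul_sg v _ _).1,
        (diagonal_mul_sg v _ _).2, pureTens_update Y l (_ • _), pureTens_update Y l (_ • _),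
        pureTens_update Y l (sg _ _), map_smul, map_smul, smul_mul_assoc, smul_mul_assoc, sub_smul]
    simp only [pow_zero, mul_one] at hop
    have h2' : pureTens (Function.update Z l E) + (-s) • pureTens (Function.update Z' l E) ∈ W := by
      rw [mul_add, add_mul, mul_smul_comm, smul_mul_assoc, add_sub_add_comm, ← smul_sub,
        hop Z _ (hZ l (Finset.mem_insert_self l R)), hop Z' _ (hZ' l (Finset.mem_insert_self l R))] at h1
      simp only [S.invol, ← hδ] at h1
      have h3 := W.smul_mem δ⁻¹ h1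
      rw [show d l (p l) - d l (S.π (p l)) = -δ by rw [hδ, neg_sub]] at h3
      convert h3 using 1
      match_scalars <;> field_simp
    have h3 := W.smul_mem δ (ih _ _ (-s) (fun j hj => hinv j (Finset.mem_insert_of_mem hj))
      (fun j hj => by rw [Function.update_of_ne (ne_of_mem_of_not_mem hj hl)]; exact hZ j (Finset.mem_insert_of_mem hj))
      (fun j hj => by rw [Function.update_of_ne (ne_of_mem_of_not_mem hj hl)]; exact hZ' j (Finset.mem_insert_of_mem hj))
      h2')
    rw [smul_smul] at h3
    have e : ∀ Y : Fin t → Matrix (Fin k) (Fin k) F,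
        (fun j => if j ∈ R then (sg (p j) (S.π (p j)) : Matrix (Fin k) (Fin k) F) else Function.update Y l E j) =
          fun j => if j ∈ insert l R then sg (p j) (S.π (p j)) else Y j := fun Y => by
      funext j
      rcases eq_or_ne j l with rfl | hjl
      · simp [hl, hE]
      · simp [hjl]
    rw [e, e, show -s * (-1) ^ R.card = s * ((-1) ^ R.card * -1) by ring] at h3
    exact h3

theorem Lg.map (hG : S.SOver G) {i j : Fin t} {Φ : Matrix (Idx k t) (Idx k t) F} (h : S.Lg G i Φ)
    {g : GL (Idx k t) F} (hg : g ∈ G) (ha : Acts g i j 1) : S.Lg G j (conjA g Φ) := by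
  refine ⟨ha.com h.1, fun u => ?_⟩
  have := (h.2 u).conj hG hg
  rwa [map_add, map_one, map_mul, ha, conjA_one] at this

/-- A short piece gives an idempotent of a pair. -/
theorem short_case (hG : S.SOver G) (h2 : (2 : F) ≠ 0) {i p : Fin t} {R : Finset (Fin t)} (hi : i ∉ R)
    (hp : p ∈ R) (ho : Odd R.card) {X : Fin t → Matrix (Fin k) (Fin k) F} (hX : ∀ l ∈ R, S.IsPiece (X l))
    (hX1 : ∀ l, l ∉ R → X l = 1) {a b : Fin k} (h1 : b ≠ a) (h1' : b ≠ S.π a)
    (hXp : X p = sg a b + S.ad (sg a b)) (h : S.Lg G i (pureTens X)) :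
    ∃ f : Fin t → Fin k, S.Lg G p
      (pureTens fun l => if l = i then S.pairP a else if l ∈ R.erase p then sg (f l) (S.π (f l)) else 1) := by
  classical
  have hpi : p ≠ i := fun e => hi (e ▸ hp)
  set E : Matrix (Fin k) (Fin k) F := sg a (S.π a) with hE
  set Y := Function.update (Function.update X p 1) i E with hY
  set Ψ := pureTens Y with hΨdef
  have hYp : Y p = 1 := by simp [hY, hpi]
  have hΨc : Com p Ψ := com_pureTens hYp
  have hn : fa i E * pureTens X = fa p (X p) * Ψ := by
    rw [(fa_mul_pureTens X i E).1, (fa_mul_pureTens Y p (X p)).1]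
    congr 1
    funext l
    rcases eq_or_ne l p with rfl | hlp
    · simp [hY, hpi]
    rcases eq_or_ne l i with rfl | hli
    · simp [hY, hX1 l hi, Ne.symm hpi]
    · simp [hY, hlp, hli]
  have hI := InI.long h h2 a
  rw [← hE, hn] at hI
  have hnn : fa p (X p) * Ψ * (fa p (X p) * Ψ) = 0 := by
    rw [← hn, hE]
    exact fa_sg_ne h.1 (S.nofix a) _
  have hXsk : S.ad (X p) = X p := by rw [hXp, piece_d]
  have hXne : X p ≠ 0 := (hX p hp).ne_zero
  have hsk : S.adT Ψ = -Ψ := by
    have h3 := hI.skew hnn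
    rw [S.adT_fa_mul hΨc, hXsk] at h3
    refine eq_neg_of_add_eq_zero_left (eq_zero_of_fa_mul hXne ((S.com_adT hΨc).add hΨc) ?_)
    rw [mul_add, h3, neg_add_cancel]
  have hSh : S.Sh G p Ψ := by
    refine sh_of_one hG hΨc h1 h1' ?_
    have e : S.shm p a b Ψ = fa p (X p) * Ψ := by
      rw [shm, S.adT_fa_mul hΨc, hsk, mul_neg, sub_neg_eq_add, ← add_mul, ← map_add, hXp]
    rwa [e]
  obtain ⟨xi, s, hxi, hs, hxi1, hxi2⟩ := long_opp (S := S) a
  set Q := R.erase p with hQ
  have hiQ : i ∉ Q := fun e => hi (Finset.mem_of_mem_erase e)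
  have hopp : ∀ l, ∃ (x : GL (Fin k) F) (d : Fin k → F) (q : Fin k), S.Iso x ∧ (l ∈ Q →
      X l * conjA x (X l) = Matrix.diagonal d ∧ conjA x (X l) * X l = Matrix.diagonal (fun a => d (S.π a)) ∧
        d (S.π q) - d q ≠ 0) ∧ (l = i → x = xi) := fun l => by
    by_cases hl : l ∈ Q
    · obtain ⟨x, d, q, hx, e1, e2, e3⟩ := (hX l (Finset.mem_of_mem_erase hl)).opp
      exact ⟨x, d, q, hx, fun _ => ⟨e1, e2, e3⟩, fun e => absurd (e ▸ hl) hiQ⟩
    · exact ⟨xi, 0, a, hxi, fun e => absurd e hl, fun _ => rfl⟩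
  choose x d q hx hd hdi using hopp
  obtain ⟨g, hg, hgX⟩ := exists_iso_fu hG hx (insert i Q)
  have hpQ : p ∉ insert i Q := by simp [hQ, hpi]
  have hga : Acts g p p 1 := fun Z => by
    rw [conjA_one, fa_apply, powStd, hgX]
    congr 1
    funext l
    rcases eq_or_ne l p with rfl | hl
    · simp [hpQ]
    · simp [hl]
  have hΨ' : S.adT (conjA g Ψ) = -conjA g Ψ := by rw [adT_conjA hG hg, hsk, map_neg]
  have hJ := hSh.mul_sh hG h2 (hSh.conj hG hg hga) h1 h1'
  rw [hΨ', hsk, neg_mul_neg, hΨdef, hgX, pureTens_mul, pureTens_mul] at hJ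
  have hJ' := (show ∀ P P', S.Lg G p (P + P') → P + (1 : F) • P' ∈ S.lgSub G h2 p from fun P P' h => by
    rw [one_smul]; exact h) _ _ hJ
  have hYQ : ∀ l ∈ Q, Y l = X l := fun l hl => by
    have hlp : l ≠ p := Finset.ne_of_mem_erase hl
    have hli : l ≠ i := fun e => hiQ (e ▸ hl)
    simp [hY, hlp, hli]
  have key := ops_gen h2 Q q d _ _ 1 (W := S.lgSub G h2 p)
    (fun l hl => lgSub_inv hG h2 (Finset.ne_of_mem_erase hl))
    (fun l hl => by simp only [Finset.mem_insert_of_mem hl, if_true, hYQ l hl]; exact (hd l hl).1)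
    (fun l hl => by simp only [Finset.mem_insert_of_mem hl, if_true, hYQ l hl]; exact (hd l hl).2.1) hJ'
  have hQe : Even Q.card := by
    rw [hQ, Finset.card_erase_of_mem hp]; obtain ⟨r, hr⟩ := ho; exact ⟨r, by omega⟩
  rw [hQe.neg_one_pow, mul_one, one_smul] at key
  have hc : ∏ l ∈ Q, (d l (S.π (q l)) - d l (q l)) ≠ 0 := Finset.prod_ne_zero_iff.2 fun l hl => (hd l hl).2.2
  set T : Fin t → Matrix (Fin k) (Fin k) F := fun l => if l ∈ Q then sg (q l) (S.π (q l)) else 1 with hT
  have hout : ∀ l, l ≠ i → l ∉ Q → Y l = 1 := fun l hli hlQ => by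
    rcases eq_or_ne l p with rfl | hlp
    · exact hYp
    · have : l ∉ R := fun e => hlQ (Finset.mem_erase.2 ⟨hlp, e⟩)
      simp [hY, hlp, hli, hX1 l this]
  have e1 : ∀ D : Fin t → Matrix (Fin k) (Fin k) F, (∀ l, l ≠ i → l ∉ Q → D l = 1) →
      pureTens (fun l => if l ∈ Q then sg (q l) (S.π (q l)) else D l) =
        fa i (D i) * pureTens (Function.update T i 1) := fun D hD => by
    rw [← pureTens_update]
    congr 1
    funext l
    rcases eq_or_ne l i with rfl | hli
    · simp [hiQ]
    · by_cases hlQ : l ∈ Q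
      · simp [hli, hT, hlQ]
      · simp [hli, hT, hlQ, hD l hli hlQ]
  have e2 : Y i = E := by simp [hY]
  rw [e1 _ (fun l hli hlQ => by simp [hli, hlQ, hout l hli hlQ]),
    e1 _ (fun l hli hlQ => by simp [hli, hlQ, hout l hli hlQ])] at key
  simp only [Finset.mem_insert_self, if_true, e2, hdi i rfl, hE, hxi1, hxi2, ← add_mul, ← map_add, diagonal_pair,
    map_smul, smul_mul_assoc] at key
  have key' := (S.lgSub G h2 p).smul_mem ((∏ l ∈ Q, (d l (S.π (q l)) - d l (q l))) * s)⁻¹ key
  rw [smul_smul, smul_smul, mul_assoc, inv_mul_cancel₀ (mul_ne_zero hc hs), one_smul, ← pureTens_update] at key'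
  refine ⟨q, ?_⟩
  show _ ∈ S.lgSub G h2 p
  convert key' using 2
  funext l
  rcases eq_or_ne l i with rfl | hli
  · simp
  · simp [hli, hT]

/-- Even sets of roots among the coefficients. -/
theorem exists_even_set (hG : S.SOver G) (h2 : (2 : F) ≠ 0) (hk : 2 ≤ k) (h4 : 4 ≤ t) (hR : ¬ S.NR G) :
    ∃ (i : Fin t) (A : Finset (Fin t)) (f : Fin t → Fin k),
      i ∉ A ∧ A.Nonempty ∧ Even A.card ∧ S.Lg G i (S.rootProd A f) := by
  classical
  simp only [NR, not_forall, not_exists] at hR
  obtain ⟨i, Φ, hΦ, hns⟩ := hR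
  obtain ⟨X, hX, hXi, ⟨l0, hl0i, hl0⟩, hXW⟩ := exists_pure_ne (W := S.lgSub G h2 i) h2 (by omega) (i := i)
    (fun Ψ hΨ => hΨ.1) (fun l hl => lgSub_inv hG h2 hl) (show Φ ∈ S.lgSub G h2 i from hΦ) hns
  set R := Finset.univ.filter (fun l => S.IsPiece (X l) ∧ l ≠ i) with hRdef
  have hiR : i ∉ R := by simp [hRdef]
  have hRne : R.Nonempty := ⟨l0, by simp [hRdef, hl0, hl0i]⟩
  have hXR : ∀ l ∈ R, S.IsPiece (X l) := fun l hl => (Finset.mem_filter.1 hl).2.1
  have hX1 : ∀ l, l ∉ R → X l = 1 := fun l hl => by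
    rcases eq_or_ne l i with rfl | hli
    · exact hXi
    · exact (hX l).resolve_right fun e => hl (by simp [hRdef, e, hli])
  have longcase : (∀ l ∈ R, ∃ a, X l = sg a (S.π a)) → ∃ f : Fin t → Fin k,
      S.Lg G i (S.rootProd R f) ∧ Even R.card := by
    intro hlong
    have : ∀ l, ∃ a, l ∈ R → X l = sg a (S.π a) := fun l => by
      by_cases hl : l ∈ R
      · obtain ⟨a, ha⟩ := hlong l hl; exact ⟨a, fun _ => ha⟩
      · exact ⟨⟨0, by omega⟩, fun e => absurd e hl⟩
    choose f hf using this
    have e : pureTens X = S.rootProd R f := by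
      rw [rootProd]
      congr 1
      funext l
      by_cases hl : l ∈ R
      · simp [hl, hf l hl]
      · simp [hl, hX1 l hl]
    have hL : S.Lg G i (S.rootProd R f) := e ▸ hXW
    exact ⟨f, hL, even_of_lg h2 hL⟩
  by_cases hlong : ∀ l ∈ R, ∃ a, X l = sg a (S.π a)
  · obtain ⟨f, hf, he⟩ := longcase hlong
    exact ⟨i, R, f, hiR, hRne, he, hf⟩
  push Not at hlong
  obtain ⟨p, hp, hpl⟩ := hlong
  obtain ⟨a, b, h1, h1', hXp⟩ := (hXR p hp).resolve_left fun ⟨a, e⟩ => hpl a e
  rcases Nat.even_or_odd R.card with he | ho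
  · obtain ⟨f, hf⟩ := even_pieces hG h2 h1 h1' hiR he hXR hX1 hXW
    exact ⟨i, R, f, hiR, hRne, he, hf⟩
  have hpi : p ≠ i := fun e => hiR (e ▸ hp)
  by_cases hone : R.card = 1
  · -- a single piece: spread it over two factors
    have hRp : R = {p} := by
      obtain ⟨z, hz⟩ := Finset.card_eq_one.1 hone
      rw [hz] at hp ⊢
      rw [Finset.mem_singleton.1 hp]
    obtain ⟨j, hji, hjp⟩ : ∃ j : Fin t, j ≠ i ∧ j ≠ p := by
      by_contra hc
      push Not at hc
      have := Finset.card_le_card (show (Finset.univ : Finset (Fin t)) ⊆ {i, p} from fun z _ => by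
        rcases eq_or_ne z i with rfl | hz
        · simp
        · simp [hc z hz])
      rw [Finset.card_univ, Fintype.card_fin] at this
      exact absurd (this.trans Finset.card_le_two) (by omega)
    obtain ⟨l, hli, hlp, hlj⟩ : ∃ l : Fin t, l ≠ i ∧ l ≠ p ∧ l ≠ j := by
      by_contra hc
      push Not at hc
      have := Finset.card_le_card (show (Finset.univ : Finset (Fin t)) ⊆ {i, p, j} from fun z _ => by
        rcases eq_or_ne z i with rfl | hz
        · simp
        rcases eq_or_ne z p with rfl | hz'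
        · simp
        · simp [hc z hz hz'])
      rw [Finset.card_univ, Fintype.card_fin] at this
      exact absurd (this.trans Finset.card_le_three) (by omega)
    have tr : ∀ σ : Equiv.Perm (Fin t), Equiv.Perm.sign σ = 1 → σ i = p →
        S.Lg G p (pureTens fun z => X (σ.symm z)) := by
      intro σ hs hσi
      obtain ⟨g, hg, hgv⟩ := hG.perm σ hs
      have eg : g = permGL σ := Units.ext hgv
      have hga : Acts g i p 1 := by
        have h := acts_permGL (F := F) (m := k) σ i
        rw [hσi] at h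
        exact eg ▸ h
      have h := Lg.map hG (show S.Lg G i (pureTens X) from hXW) hg hga
      rwa [eg, conjA_apply, show (permGL σ : GL (Idx k t) F).val = permMat σ from rfl, permMat_pureTens,
        mul_assoc, show (permMat σ : Matrix (Idx k t) (Idx k t) F) * ((permGL σ : GL (Idx k t) F)⁻¹).val = 1 from
          Units.mul_inv (permGL σ : GL (Idx k t) F), mul_one] at h
    set σ1 : Equiv.Perm (Fin t) := Equiv.swap i p * Equiv.swap j l
    set σ2 : Equiv.Perm (Fin t) := Equiv.swap i p * Equiv.swap p j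
    have s1i : σ1 i = p := by
      simp [σ1, Equiv.swap_apply_of_ne_of_ne hji.symm hli.symm]
    have s1p : σ1 p = i := by
      simp [σ1, Equiv.swap_apply_of_ne_of_ne hjp.symm hlp.symm]
    have s2i : σ2 i = p := by
      simp [σ2, Equiv.swap_apply_of_ne_of_ne hpi.symm hji.symm]
    have s2p : σ2 p = j := by
      simp [σ2, Equiv.swap_apply_of_ne_of_ne hji hjp]
    have L1 := tr σ1 (by rw [map_mul, Equiv.Perm.sign_swap hpi.symm, Equiv.Perm.sign_swap (Ne.symm hlj)]; rfl) s1i
    have L2 := tr σ2 (by rw [map_mul, Equiv.Perm.sign_swap hpi.symm, Equiv.Perm.sign_swap hjp.symm]; rfl) s2i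
    have hval : ∀ (σ : Equiv.Perm (Fin t)) (z : Fin t), X (σ.symm z) = if z = σ p then X p else 1 := fun σ z => by
      by_cases hz : z = σ p
      · rw [if_pos hz, hz, Equiv.symm_apply_apply]
      · rw [if_neg hz, hX1 _ (fun e => hz (by
          rw [hRp, Finset.mem_singleton] at e
          rw [← e, Equiv.apply_symm_apply]))]
    have hJ := Lg.smul h2 (L1.jordan hG h2 L2 h1 h1') (2 : F)⁻¹
    rw [pureTens_mul, pureTens_mul,
      show (fun z => X (σ2.symm z) * X (σ1.symm z)) = fun z => X (σ1.symm z) * X (σ2.symm z) from funext fun z => by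
        rw [hval, hval, s1p, s2p]
        by_cases hz : z = i
        · simp [hz, hji.symm]
        · simp [hz],
      ← two_smul F, smul_smul, inv_mul_cancel₀ h2, one_smul] at hJ
    set Y : Fin t → Matrix (Fin k) (Fin k) F := fun z => X (σ1.symm z) * X (σ2.symm z) with hY
    have hY1 : ∀ z, z ∉ ({i, j} : Finset (Fin t)) → Y z = 1 := fun z hz => by
      simp only [Finset.mem_insert, Finset.mem_singleton, not_or] at hz
      simp [hY, hval, s1p, s2p, hz.1, hz.2]
    have hYp : ∀ z ∈ ({i, j} : Finset (Fin t)), S.IsPiece (Y z) := fun z hz => by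
      simp only [Finset.mem_insert, Finset.mem_singleton] at hz
      rcases hz with rfl | rfl
      · simpa [hY, hval, s1p, s2p, hji.symm] using hXR p hp
      · simpa [hY, hval, s1p, s2p, hji] using hXR p hp
    have hc2 : ({i, j} : Finset (Fin t)).card = 2 := Finset.card_pair hji.symm
    obtain ⟨f, hf⟩ := even_pieces hG h2 h1 h1' (i := p) (R := {i, j}) (by simp [hpi, hjp.symm])
      (by rw [hc2]; exact even_two) hYp hY1 hJ
    exact ⟨p, {i, j}, f, by simp [hpi, hjp.symm], Finset.insert_nonempty _ _, by rw [hc2]; exact even_two, hf⟩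
  -- average the idempotent over the pairs
  obtain ⟨f, hf⟩ := short_case hG h2 hiR hp ho hXR hX1 h1 h1' hXp hXW
  set Q := R.erase p with hQ
  have hiQ : i ∉ Q := fun e => hiR (Finset.mem_of_mem_erase e)
  have hall : ∀ a', S.Lg G p (fa i (S.pairP a') * S.rootProd Q f) := by
    intro a'
    obtain ⟨x, hx, hxa⟩ := exists_pairP_move (S := S) a a'
    have h := Lg.conj hG hf (hG.sp i x hx) (acts_fu_ne hpi x)
    have e : (fun l => if l = i then S.pairP a else if l ∈ Q then (sg (f l) (S.π (f l)) : Matrix (Fin k) (Fin k) F) else 1) =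
        Function.update (fun l => if l ∈ Q then (sg (f l) (S.π (f l)) : Matrix (Fin k) (Fin k) F) else 1) i (S.pairP a) := by
      funext l
      rcases eq_or_ne l i with rfl | hl <;> simp [*]
    have hupd : Function.update (fun l => if l ∈ Q then (sg (f l) (S.π (f l)) : Matrix (Fin k) (Fin k) F) else 1) i 1 =
        fun l => if l ∈ Q then sg (f l) (S.π (f l)) else 1 := by
      funext l
      rcases eq_or_ne l i with rfl | hl <;> simp [*]
    rw [e, pureTens_update, hupd, ← rootProd, map_mul, acts_fu, hxa,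
      conjA_fu_com (show Com i (S.rootProd Q f) from com_pureTens (by simp [hiQ]))] at h
    exact h
  have hsum : (∑ a', fa i (S.pairP a') * S.rootProd Q f) ∈ S.lgSub G h2 p :=
    Submodule.sum_mem _ fun a' _ => hall a'
  rw [← Finset.sum_mul, ← map_sum, sum_pairP, map_smul, map_one, smul_mul_assoc, one_mul] at hsum
  have hf' := (S.lgSub G h2 p).smul_mem (2 : F)⁻¹ hsum
  rw [smul_smul, inv_mul_cancel₀ h2, one_smul] at hf'
  refine ⟨p, Q, f, Finset.notMem_erase p R, ?_, ?_, hf'⟩
  · rw [← Finset.card_pos, hQ, Finset.card_erase_of_mem hp]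
    have := ho.pos; omega
  · rw [hQ, Finset.card_erase_of_mem hp]; obtain ⟨r, hr⟩ := ho; exact ⟨r, by omega⟩

/-- Products of roots at all factors but one. -/
theorem lt_erase (hG : S.SOver G) (h2 : (2 : F) ≠ 0) (hk : 2 ≤ k) (ht : Even t) (h4 : 4 ≤ t) (hR : ¬ S.NR G)
    (p : Fin t) : S.LT G (Finset.univ.erase p) := by
  classical
  have up : ∀ (n : ℕ) (A : Finset (Fin t)), t - A.card = n → S.LT G A → Odd A.card → 3 ≤ A.card →
      S.LT G (Finset.univ.erase p) := by
    intro n
    induction n using Nat.strong_induction_on with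
    | _ n ih =>
    intro A hn h ho h3
    have hle : A.card ≤ t := by simpa using A.card_le_univ
    obtain ⟨r, hr⟩ := ho
    obtain ⟨r', hr'⟩ := ht
    by_cases he : A.card + 1 = t
    · exact h.perm hG (by omega) (by
        rw [Finset.card_erase_of_mem (Finset.mem_univ p), Finset.card_univ, Fintype.card_fin]; omega)
    have hlt : 2 ≤ (Finset.univ \ A).card := by
      rw [Finset.card_sdiff, Finset.inter_univ, Finset.card_univ, Fintype.card_fin]
      omega
    obtain ⟨y, hy, z, hz, hyz⟩ := Finset.one_lt_card.1 hlt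
    simp only [Finset.mem_sdiff, Finset.mem_univ, true_and] at hy hz
    have hc : (insert y (insert z A)).card = A.card + 2 := by
      rw [Finset.card_insert_of_notMem (by simp [hyz, hy]), Finset.card_insert_of_notMem hz]
    exact ih _ (by omega) _ rfl (h.step hG h2 (by omega) ⟨r, hr⟩ h3 hy hz hyz) (by rw [hc]; exact ⟨r + 1, by omega⟩)
      (by omega)
  obtain ⟨i, A, f, hiA, hAne, hAe, hA⟩ := exists_even_set hG h2 hk h4 hR
  have hc : (insert i A).card = A.card + 1 := Finset.card_insert_of_notMem hiA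
  refine up _ _ rfl (lt_of_lg hG h2 hiA hA) (by rw [hc]; exact hAe.add_one) ?_
  rw [hc]; obtain ⟨r, hr⟩ := hAe; have := hAne.card_pos; omega

variable (S) in
/-- Roots at all factors but one, the idempotent of the pair at that one. -/
def proj (p : Fin t) (x : Idx k t) : Matrix (Idx k t) (Idx k t) F :=
  pureTens fun l => if l = p then S.pairP (x l) else sg (x l) (S.π (x l))

theorem proj_spread (hG : S.SOver G) {p : Fin t} {x : Idx k t} (h : ∀ c : F, S.InI G (1 + c • S.proj p x))
    (y : Idx k t) (c : F) : S.InI G (1 + c • S.proj p y) := by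
  classical
  have hm : ∀ l, ∃ (x' : GL (Fin k) F) (s : F), S.Iso x' ∧ s ≠ 0 ∧
      conjA x' (if l = p then S.pairP (x l) else sg (x l) (S.π (x l))) =
        s • (if l = p then S.pairP (y l) else sg (y l) (S.π (y l))) := fun l => by
    by_cases hl : l = p
    · obtain ⟨x', hx', he⟩ := exists_pairP_move (S := S) (x l) (y l)
      exact ⟨x', 1, hx', one_ne_zero, by simp only [hl, if_true, one_smul] at he ⊢; exact he⟩
    · obtain ⟨x', s, hx', hs, he⟩ := exists_long_move (S := S) (x l) (y l)
      exact ⟨x', s, hx', hs, by simp only [hl, if_false]; exact he⟩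
  choose x' s hx' hs he using hm
  obtain ⟨g, hg, hgX⟩ := exists_iso_fu hG hx' Finset.univ
  have h1 := (h (c / ∏ l, s l)).conj hG hg
  rw [map_add, map_one, map_smul, proj, hgX] at h1
  simp only [Finset.mem_univ, if_true, he] at h1
  rw [pureTens_smul, smul_smul, div_mul_cancel₀ _ (Finset.prod_ne_zero_iff.2 fun l _ => hs l)] at h1
  exact h1

theorem proj_of_lg (hG : S.SOver G) (h2 : (2 : F) ≠ 0) {j r : Fin t} (hjr : j ≠ r) (a : Fin k)
    (h : S.Lg G j (pureTens fun l => if l = r then S.pairP a else if l = j then 1 else sg a (S.π a))) (c : F) :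
    S.InI G (1 + c • S.proj r fun _ => a) := by
  have h1 := InI.long (h.smul h2 c) h2 a
  rw [mul_smul_comm, (fa_mul_pureTens _ j _).1] at h1
  have e : S.proj r (fun _ => a) = pureTens (Function.update
      (fun l => if l = r then S.pairP a else if l = j then 1 else sg a (S.π a)) j
      (sg a (S.π a) * if j = r then S.pairP a else if j = j then 1 else sg a (S.π a))) := by
    rw [proj]
    congr 1
    funext l
    rcases eq_or_ne l j with rfl | hl <;> simp [*]
  rw [e]
  exact h1

/-- With a non-scalar coefficient all these elements lie in the group. -/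
theorem proj_mem (hG : S.SOver G) (h2 : (2 : F) ≠ 0) (hk : 2 ≤ k) (ht : Even t) (ht2 : 2 ≤ t)
    (hkt : k = 2 → 3 ≤ t) (hR : ¬ S.NR G) (p : Fin t) (x : Idx k t) (c : F) :
    S.InI G (1 + c • S.proj p x) := by
  classical
  set a : Fin k := ⟨0, by omega⟩
  by_cases hb : ∀ b, b = a ∨ b = S.π a
  · have hk2 : k = 2 := by
      have h : (Finset.univ : Finset (Fin k)) ⊆ {a, S.π a} := fun q _ => by
        rcases hb q with e | e <;> simp [e]
      have := (Finset.card_le_card h).trans Finset.card_le_two
      rw [Finset.card_univ, Fintype.card_fin] at this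
      omega
    have h4 : 4 ≤ t := by have := hkt hk2; obtain ⟨r, hr⟩ := ht; omega
    have hall : ∀ q, S.pairP q = 1 := fun q => pairP_eq_one fun b => by
      rcases hb q with rfl | rfl
      · exact hb b
      · rw [S.invol]; exact (hb b).symm
    have e : S.proj p x = S.rootProd (Finset.univ.erase p) x := by
      rw [proj, rootProd]
      congr 1
      funext l
      rcases eq_or_ne l p with rfl | hl <;> simp [*]
    rw [e]
    exact lt_erase hG h2 hk ht h4 hR p x c
  push Not at hb
  obtain ⟨b, hb1, hb2⟩ := hb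
  by_cases h4 : 4 ≤ t
  · -- one idempotent from two sets of roots
    obtain ⟨r, j, hrj⟩ : ∃ r j : Fin t, r ≠ j :=
      ⟨⟨0, by omega⟩, ⟨1, by omega⟩, fun e => by simpa using congrArg Fin.val e⟩
    obtain ⟨u, hu1, hu2⟩ : ∃ u : Fin t, u ≠ r ∧ u ≠ j := by
      by_contra hc
      push Not at hc
      have := Finset.card_le_card (show (Finset.univ : Finset (Fin t)) ⊆ {r, j} from fun z _ => by
        rcases eq_or_ne z r with rfl | hz
        · simp
        · simp [hc z hz])
      rw [Finset.card_univ, Fintype.card_fin] at this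
      exact absurd (this.trans Finset.card_le_two) (by omega)
    obtain ⟨v, hv1, hv2, hv3⟩ : ∃ v : Fin t, v ≠ r ∧ v ≠ j ∧ v ≠ u := by
      by_contra hc
      push Not at hc
      have := Finset.card_le_card (show (Finset.univ : Finset (Fin t)) ⊆ {r, j, u} from fun z _ => by
        rcases eq_or_ne z r with rfl | hz
        · simp
        rcases eq_or_ne z j with rfl | hz'
        · simp
        · simp [hc z hz hz'])
      rw [Finset.card_univ, Fintype.card_fin] at this
      exact absurd (this.trans Finset.card_le_three) (by omega)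
    set R0 : Finset (Fin t) := (((Finset.univ.erase j).erase u).erase v) with hR0
    have hrR0 : r ∈ R0 := by simp [hR0, hv1.symm, hu1.symm, hrj]
    obtain ⟨xo, s, hxo, hs, hxo1, hxo2⟩ := long_opp (S := S) a
    obtain ⟨g, hg, hgX⟩ := exists_iso_fu hG (x := fun _ => xo) (fun _ => hxo) R0
    have hjR0 : j ∉ R0 := by simp [hR0]
    have hga : Acts g j j 1 := fun Y => by
      rw [conjA_one, fa_apply, powStd, hgX]
      congr 1
      funext l
      rcases eq_or_ne l j with rfl | hl
      · simp [hjR0]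
      · simp [hl]
    have L1 := (lt_erase hG h2 hk ht h4 hR u).lg hG (i := j) (by simp [hu2.symm]) (fun _ => a)
    have L2 := Lg.conj hG ((lt_erase hG h2 hk ht h4 hR v).lg hG (i := j) (by simp [hv2.symm]) (fun _ => a)) hg hga
    have hJ : S.Lg G j _ := L1.jordan hG h2 L2 hb1 hb2
    rw [rootProd, rootProd, hgX, pureTens_mul, pureTens_mul] at hJ
    have hJ' := (show ∀ P P', S.Lg G j (P + P') → P + (1 : F) • P' ∈ S.lgSub G h2 j from fun P P' h => by
      rw [one_smul]; exact h) _ _ hJ
    set Q := R0.erase r with hQ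
    have hQ' : ∀ l ∈ Q, l ∈ R0 ∧ l ≠ j ∧ l ≠ u ∧ l ≠ v := fun l hl => by
      have h1 := Finset.mem_of_mem_erase hl
      simp only [hR0, Finset.mem_erase, Finset.mem_univ, and_true] at h1
      exact ⟨Finset.mem_of_mem_erase hl, h1.2.2, h1.2.1, h1.1⟩
    have key := ops_gen h2 Q (fun _ => S.π a) (fun _ => Pi.single a s) _ _ 1 (W := S.lgSub G h2 j)
      (fun l hl => lgSub_inv hG h2 (hQ' l hl).2.1)
      (fun l hl => by
        obtain ⟨l1, l2, l3, l4⟩ := hQ' l hl
        simp [l1, l2, l3, l4, hxo1])
      (fun l hl => by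
        obtain ⟨l1, l2, l3, l4⟩ := hQ' l hl
        simp only [l1, if_true, Finset.mem_erase, Finset.mem_univ, and_true, ne_eq, l2, l3, l4, not_false_eq_true,
          and_self, hxo2]
        congr 1
        funext z
        simp [Pi.single_apply, ← S.π_inj.eq_iff (b := a), S.invol, eq_comm]) hJ'
    have hR0c : R0.card = t - 3 := by
      rw [hR0, Finset.card_erase_of_mem (by simp [hv3, hv2]), Finset.card_erase_of_mem (by simp [hu2]),
        Finset.card_erase_of_mem (Finset.mem_univ j), Finset.card_univ, Fintype.card_fin]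
      omega
    have hQe : Even Q.card := by
      rw [hQ, Finset.card_erase_of_mem hrR0, hR0c]; obtain ⟨r', hr'⟩ := ht; exact ⟨r' - 2, by omega⟩
    have hprod : ∏ l ∈ Q, ((Pi.single a s : Fin k → F) (S.π (S.π a)) - (Pi.single a s : Fin k → F) (S.π a)) = s ^ Q.card := by
      rw [Finset.prod_const, S.invol, Pi.single_eq_same, Pi.single_eq_of_ne (S.nofix a), sub_zero]
    rw [hQe.neg_one_pow, mul_one, one_smul, hprod] at key
    set T : Fin t → Matrix (Fin k) (Fin k) F := fun l =>
      if l = j then 1 else if l ∈ Q then sg (S.π a) (S.π (S.π a)) else sg a (S.π a) with hT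
    have hrQ : r ∉ Q := Finset.notMem_erase r R0
    have hout : ∀ l, l ≠ r → l ∉ Q → l = j ∨ l = u ∨ l = v := fun l hl hlQ => by
      by_contra hc
      push Not at hc
      exact hlQ (Finset.mem_erase.2 ⟨hl, by simp [hR0, hc.1, hc.2.1, hc.2.2]⟩)
    have e1 : ∀ D : Fin t → Matrix (Fin k) (Fin k) F,
        D j = 1 → D u = sg a (S.π a) → D v = sg a (S.π a) →
        pureTens (fun l => if l ∈ Q then sg (S.π a) (S.π (S.π a)) else D l) =
          fa r (D r) * pureTens (Function.update T r 1) := fun D Dj Du Dv => by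
      rw [← pureTens_update]
      congr 1
      funext l
      rcases eq_or_ne l r with rfl | hlr
      · simp [hrQ]
      · by_cases hlQ : l ∈ Q
        · simp [hlr, hT, hlQ, (hQ' l hlQ).2.1]
        · rcases hout l hlr hlQ with rfl | rfl | rfl <;> simp [hlr, hT, hlQ, *]
    rw [e1 _ (by simp [hjR0]) (by simp [hR0, hu2, hv3, hv3.symm]) (by simp [hR0, hv2, hv3, hv3.symm]),
      e1 _ (by simp [hjR0]) (by simp [hR0, hu2, hv3, hv3.symm]) (by simp [hR0, hv2, hv3, hv3.symm])] at key
    simp only [Finset.mem_erase, Finset.mem_univ, and_true, ne_eq, hrR0, if_true, hrj, hu1.symm, hv1.symm,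
      not_false_eq_true, and_self, hxo1, hxo2, ← add_mul, ← map_add, diagonal_pair, map_smul, smul_mul_assoc] at key
    have key' := (S.lgSub G h2 j).smul_mem (s ^ Q.card * s)⁻¹ key
    rw [smul_smul, smul_smul, mul_assoc, inv_mul_cancel₀ (mul_ne_zero (pow_ne_zero _ hs) hs), one_smul,
      ← pureTens_update] at key'
    have hL : S.Lg G j (pureTens (Function.update T r (S.pairP a))) := key'
    -- the chosen indices do not matter
    set y : Idx k t := fun l => if l ∈ Q then S.π a else a with hy
    have hy1 : ∀ c : F, S.InI G (1 + c • S.proj r y) := fun c => by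
      have h1 := InI.long (hL.smul h2 c) h2 a
      rw [mul_smul_comm, (fa_mul_pureTens _ j _).1] at h1
      have e : S.proj r y = pureTens (Function.update (Function.update T r (S.pairP a)) j
          (sg a (S.π a) * Function.update T r (S.pairP a) j)) := by
        rw [proj]
        congr 1
        funext l
        rcases eq_or_ne l j with rfl | hlj
        · have : l ∉ Q := fun e => (hQ' l e).2.1 rfl
          simp [hrj.symm, hy, hT, this]
        rcases eq_or_ne l r with rfl | hlr
        · simp [hy, hrQ, hrj]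
        · by_cases hlQ : l ∈ Q <;> simp [hy, hT, hlj, hlr, hlQ]
      rw [e]
      exact h1
    -- move the exceptional factor
    rcases eq_or_ne p r with rfl | hpr
    · exact proj_spread hG hy1 x c
    obtain ⟨w, hw1, hw2⟩ : ∃ w : Fin t, w ≠ r ∧ w ≠ p := by
      by_contra hc
      push Not at hc
      have := Finset.card_le_card (show (Finset.univ : Finset (Fin t)) ⊆ {r, p} from fun z _ => by
        rcases eq_or_ne z r with rfl | hz
        · simp
        · simp [hc z hz])
      rw [Finset.card_univ, Fintype.card_fin] at this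
      exact absurd (this.trans Finset.card_le_two) (by omega)
    set σ : Equiv.Perm (Fin t) := Equiv.swap r p * Equiv.swap p w
    obtain ⟨P, hP, hPv⟩ := hG.perm σ (by
      rw [map_mul, Equiv.Perm.sign_swap hpr.symm, Equiv.Perm.sign_swap hw2.symm]; rfl)
    have eP : P = permGL σ := Units.ext hPv
    have hσr : σ r = p := by simp [σ, Equiv.swap_apply_of_ne_of_ne hpr.symm hw1.symm]
    have h5 : ∀ c : F, S.InI G (1 + c • S.proj p fun l => y (σ.symm l)) := fun c => by
      have h1 := (hy1 c).conj hG hP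
      rw [map_add, map_one, map_smul, proj, eP, conjA_apply,
        show (permGL σ : GL (Idx k t) F).val = permMat σ from rfl, permMat_pureTens,
        mul_assoc, show (permMat σ : Matrix (Idx k t) (Idx k t) F) * ((permGL σ : GL (Idx k t) F)⁻¹).val = 1 from
          Units.mul_inv (permGL σ : GL (Idx k t) F), mul_one] at h1
      have hiff : ∀ l, σ.symm l = r ↔ l = p := fun l => by rw [Equiv.symm_apply_eq, hσr]
      simp only [hiff] at h1
      exact h1
    exact proj_spread hG h5 x c
  · -- two factors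
    have ht2' : t = 2 := by obtain ⟨r, hr⟩ := ht; omega
    have htwo : ∀ i q l : Fin t, q ≠ i → l = i ∨ l = q := fun i q l hqi => by
      rcases eq_or_ne l i with e | hl
      · exact Or.inl e
      refine Or.inr (Fin.ext ?_)
      have h1 := l.isLt; have h2 := i.isLt; have h3 := q.isLt
      have h4 : (l : ℕ) ≠ i := fun e => hl (Fin.ext e)
      have h5 : (q : ℕ) ≠ i := fun e => hqi (Fin.ext e)
      omega
    have hns : ∀ (i : Fin t) (a' : Fin k) (c : F),
        fa (t := t) i (S.pairP a') ≠ c • (1 : Matrix (Idx k t) (Idx k t) F) := by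
      intro i a' c e
      rw [← map_one (fa (F := F) (m := k) (t := t) i), ← map_smul] at e
      have e' := fa_injective (by omega) i e
      obtain ⟨b', hb1', hb2'⟩ : ∃ b', b' ≠ a' ∧ b' ≠ S.π a' := by
        rcases eq_or_ne a a' with rfl | ha
        · exact ⟨b, hb1, hb2⟩
        rcases eq_or_ne a (S.π a') with ha' | ha'
        · exact ⟨b, fun e => hb2 (by rw [e, ha', S.invol]), fun e => hb1 (by rw [e, ha'])⟩
        exact ⟨a, ha, ha'⟩
      have h1 := congrFun (congrFun e' b') b'
      have h2 := congrFun (congrFun e' a') a'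
      simp [pairP, Matrix.single_apply, Ne.symm hb1', Ne.symm hb2', S.nofix] at h1 h2
      rw [← h1] at h2
      exact one_ne_zero h2
    -- a coefficient at one factor gives one at the other
    have swap : ∀ (i : Fin t), (∃ Φ, S.Lg G i Φ ∧ ∀ c : F, Φ ≠ c • 1) →
        ∃ q, q ≠ i ∧ ∃ a', S.Lg G q (fa i (S.pairP a')) := by
      rintro i ⟨Φ, hΦ, hΦns⟩
      obtain ⟨X, hX, hXi, ⟨q, hqi, hq⟩, hXW⟩ := exists_pure_ne (W := S.lgSub G h2 i) h2 (by omega) (i := i)
        (fun Ψ hΨ => hΨ.1) (fun l hl => lgSub_inv hG h2 hl) (show Φ ∈ S.lgSub G h2 i from hΦ) hΦns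
      have hX1 : ∀ l, l ∉ ({q} : Finset (Fin t)) → X l = 1 := fun l hl => by
        rcases htwo i q l hqi with rfl | rfl
        · exact hXi
        · simp at hl
      have hshort : ¬ ∃ a', X q = sg a' (S.π a') := by
        rintro ⟨a', ha'⟩
        have e : pureTens X = S.rootProd {q} fun _ => a' := by
          rw [rootProd]
          congr 1
          funext l
          rcases htwo i q l hqi with rfl | rfl
          · simp [hXi, Ne.symm hqi]
          · simp [ha']
        have := even_of_lg h2 (show S.Lg G i (S.rootProd {q} fun _ => a') from e ▸ hXW)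
        simp at this
      obtain ⟨a', b', h1, h1', hXq⟩ := hq.resolve_left hshort
      obtain ⟨f, hf⟩ := short_case hG h2 (R := {q}) (by simp [Ne.symm hqi]) (Finset.mem_singleton_self q) (by simp)
        (fun l hl => by rw [Finset.mem_singleton.1 hl]; exact hq) hX1 h1 h1' hXq hXW
      refine ⟨q, hqi, a', ?_⟩
      convert hf using 1
      rw [fa_apply, powStd]
      congr 1
      funext l
      rcases htwo i q l hqi with rfl | rfl
      · simp
      · simp [hqi]
    simp only [NR, not_forall, not_exists] at hR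
    obtain ⟨i, Φ, hΦ, hΦns⟩ := hR
    obtain ⟨q, hqi, a1, hq⟩ := swap i ⟨Φ, hΦ, hΦns⟩
    obtain ⟨i', hi', a2, hi⟩ := swap q ⟨_, hq, hns i a1⟩
    have hii : i' = i := (htwo i q i' hqi).resolve_right hi'
    subst hii
    have main : ∀ j r a', j ≠ r → S.Lg G j (fa r (S.pairP a')) → ∀ c : F, S.InI G (1 + c • S.proj r fun _ => a') := by
      intro j r a' hjr h c
      refine proj_of_lg hG h2 hjr a' ?_ c
      convert h using 1
      rw [fa_apply, powStd]
      congr 1
      funext l
      rcases htwo r j l hjr with rfl | rfl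
      · simp
      · simp [hjr]
    rcases htwo i' q p hqi with rfl | rfl
    · exact proj_spread hG (main q p a1 hqi hq) x c
    · exact proj_spread hG (main i' p a2 (Ne.symm hqi) hi) x c

end Cfsg.Lib.Linear.SpWreath.Std
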